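import Cfsg.Agent.KSG55.Lin.SL2Mat

set_option autoImplicit false

/-! Root systems of type `A`: commutator rules. -/

namespace Cfsg.Agent.KSG55.Lin

open Matrix

variable {F : Type*} [Field F]

/-- Lower unipotent. -/
def mL (x : F) : SpecialLinearGroup (Fin 2) F := ⟨!![1, 0; x, 1], by simp [Matrix.det_fin_two]⟩

@[simp] theorem mL_coe (x : F) : (mL x : Matrix (Fin 2) (Fin 2) F) = !![1, 0; x, 1] := rfl

theorem mT_eq : (mT : SpecialLinearGroup (Fin 2) F) = mU 1 * mL (-1) * mU 1 := by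
  apply Subtype.ext; simp

theorem mH_eq (d : Fˣ) :
    mH d = mU (d : F) * mL (-(d : F)⁻¹) * mU (d : F) * (mU (-1) * mL 1 * mU (-1)) := by
  apply Subtype.ext; simp

theorem mH_eq' (d : Fˣ) :
    mH d = mU (-(d : F)) * mL ((d : F)⁻¹) * mU (-(d : F)) * (mU 1 * mL (-1) * mU 1) := by
  apply Subtype.ext; simp

theorem mU_mul_mL (b c : F) (hu : 1 + b * c ≠ 0) :
    mU b * mL c = mL (c / (1 + b * c)) * mH (Units.mk0 _ hu) * mU (b / (1 + b * c)) := by
  apply Subtype.ext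
  have hu' : 1 + c * b ≠ 0 := by rwa [mul_comm]
  ext i j
  fin_cases i <;> fin_cases j <;> simp [Matrix.mul_apply, Fin.sum_univ_two] <;> field_simp [hu'] <;> ring

/-- A system of root elements of type `A` in a group. -/
structure RootSys (F : Type*) [Field F] (n : ℕ) (G : Type*) [Group G] where
  x : Fin n → Fin n → F → G
  add : ∀ i j, i ≠ j → ∀ s t, x i j (s + t) = x i j s * x i j t
  comm : ∀ i j k, i ≠ j → j ≠ k → i ≠ k → ∀ s t, x i j s * x j k t = x i k (s * t) * x j k t * x i j s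
  comm0 : ∀ i j k l, i ≠ j → k ≠ l → j ≠ k → i ≠ l → ∀ s t, Commute (x i j s) (x k l t)
  sl2 : ∀ i j, i ≠ j → ∃ f : SpecialLinearGroup (Fin 2) F →* G,
    (∀ t, f (mU t) = x i j t) ∧ ∀ t, f (mL t) = x j i t

namespace RootSys

variable {n : ℕ} {G : Type*} [Group G] (R : RootSys F n G) {i j k l : Fin n}

/-- The copy of `SL₂` on two indices. -/
noncomputable def f (h : i ≠ j) : SpecialLinearGroup (Fin 2) F →* G := (R.sl2 i j h).choose

theorem f_U (h : i ≠ j) (t : F) : R.f h (mU t) = R.x i j t := (R.sl2 i j h).choose_spec.1 t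
theorem f_L (h : i ≠ j) (t : F) : R.f h (mL t) = R.x j i t := (R.sl2 i j h).choose_spec.2 t

theorem zero (h : i ≠ j) : R.x i j 0 = 1 := by rw [← R.f_U h, mU_zero, map_one]

theorem neg (h : i ≠ j) (t : F) : R.x i j (-t) = (R.x i j t)⁻¹ :=
  eq_inv_of_mul_eq_one_left (by rw [← R.add i j h, neg_add_cancel, R.zero h])

theorem same (h : i ≠ j) (s t : F) : Commute (R.x i j s) (R.x i j t) :=
  R.comm0 i j i j h h h.symm h s t

theorem row1 (hij : i ≠ j) (hjk : j ≠ k) (hik : i ≠ k) (a t : F) :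
    R.x i j a * R.x j k t * (R.x i j a)⁻¹ = R.x i k (a * t) * R.x j k t := by
  rw [R.comm i j k hij hjk hik, mul_inv_cancel_right]

theorem row0 (hij : i ≠ j) (hik : i ≠ k) (a t : F) :
    R.x i j a * R.x i k t * (R.x i j a)⁻¹ = R.x i k t := by
  rw [(R.comm0 i j i k hij hik hij.symm hik a t).eq, mul_inv_cancel_right]

theorem col1 (hij : i ≠ j) (hki : k ≠ i) (hkj : k ≠ j) (a t : F) :
    R.x i j a * R.x k i t * (R.x i j a)⁻¹ = R.x k j (-(t * a)) * R.x k i t := by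
  rw [mul_inv_eq_iff_eq_mul, mul_assoc, R.comm k i j hki hij hkj, mul_assoc (R.x k j (t * a)), ← mul_assoc,
    R.neg hkj, inv_mul_cancel, one_mul]

theorem col0 (hij : i ≠ j) (hkj : k ≠ j) (a t : F) :
    R.x i j a * R.x k j t * (R.x i j a)⁻¹ = R.x k j t := by
  rw [(R.comm0 i j k j hij hkj hkj.symm hij a t).eq, mul_inv_cancel_right]

/-- The monomial element. -/
def w (i j : Fin n) (d : F) : G := R.x i j d * R.x j i (-d⁻¹) * R.x i j d

theorem w_conj (d : F) (g : G) : R.w i j d * g * (R.w i j d)⁻¹ =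
    R.x i j d * (R.x j i (-d⁻¹) * (R.x i j d * g * (R.x i j d)⁻¹) * (R.x j i (-d⁻¹))⁻¹) * (R.x i j d)⁻¹ := by
  rw [w]; group

theorem conj_mul3 (a g g' : G) : a * (g * g') * a⁻¹ = (a * g * a⁻¹) * (a * g' * a⁻¹) := by group

theorem w_row_fst (hij : i ≠ j) (hik : i ≠ k) (hjk : j ≠ k) {d : F} (hd : d ≠ 0) (t : F) :
    R.w i j d * R.x i k t * (R.w i j d)⁻¹ = R.x j k (-(t * d⁻¹)) := by
  rw [w_conj, R.row0 hij hik, R.row1 hij.symm hik hjk, conj_mul3 (R.x i j d), R.row1 hij hjk hik, R.row0 hij hik,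
    mul_assoc (R.x i k _), (R.comm0 j k i k hjk hik hik.symm hjk _ _).eq, ← mul_assoc (R.x i k _), ← R.add i k hik]
  rw [show d * (-d⁻¹ * t) + t = 0 by field_simp; ring, R.zero hik, one_mul,
    show -d⁻¹ * t = -(t * d⁻¹) by ring]

theorem w_row_snd (hij : i ≠ j) (hik : i ≠ k) (hjk : j ≠ k) {d : F} (hd : d ≠ 0) (t : F) :
    R.w i j d * R.x j k t * (R.w i j d)⁻¹ = R.x i k (d * t) := by
  rw [w_conj, R.row1 hij hjk hik, conj_mul3 (R.x j i (-d⁻¹)), R.row1 hij.symm hik hjk, R.row0 hij.symm hjk,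
    mul_assoc (R.x j k _), (R.comm0 i k j k hik hjk hjk.symm hik _ _).eq, ← mul_assoc (R.x j k _), ← R.add j k hjk]
  rw [show -d⁻¹ * (d * t) + t = 0 by field_simp; ring, R.zero hjk, one_mul, R.row0 hij hik]

theorem w_col_fst (hij : i ≠ j) (hki : k ≠ i) (hkj : k ≠ j) {d : F} (hd : d ≠ 0) (t : F) :
    R.w i j d * R.x k i t * (R.w i j d)⁻¹ = R.x k j (-(t * d)) := by
  rw [w_conj, R.col1 hij hki hkj, conj_mul3 (R.x j i (-d⁻¹)), R.col1 hij.symm hkj hki, R.col0 hij.symm hki,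
    mul_assoc (R.x k i _), (R.comm0 k j k i hkj hki hkj.symm hki _ _).eq, ← mul_assoc (R.x k i _), ← R.add k i hki]
  rw [show -(-(t * d) * -d⁻¹) + t = 0 by field_simp; ring, R.zero hki, one_mul, R.col0 hij hkj]

theorem w_col_snd (hij : i ≠ j) (hki : k ≠ i) (hkj : k ≠ j) {d : F} (hd : d ≠ 0) (t : F) :
    R.w i j d * R.x k j t * (R.w i j d)⁻¹ = R.x k i (t * d⁻¹) := by
  rw [w_conj, R.col0 hij hkj, R.col1 hij.symm hkj hki, conj_mul3 (R.x i j d), R.col1 hij hki hkj, R.col0 hij hkj,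
    mul_assoc (R.x k j _), (R.comm0 k i k j hki hkj hki.symm hkj _ _).eq, ← mul_assoc (R.x k j _), ← R.add k j hkj]
  rw [show -(-(t * -d⁻¹) * d) + t = 0 by field_simp; ring, R.zero hkj, one_mul,
    show -(t * -d⁻¹) = t * d⁻¹ by ring]

/-- The torus element. -/
noncomputable def h (hij : i ≠ j) (d : Fˣ) : G := R.f hij (mH d)

theorem h_eq (hij : i ≠ j) (d : Fˣ) : R.h hij d = R.w i j d * R.w i j (-1) := by
  rw [h, mH_eq]
  simp only [map_mul, R.f_U, R.f_L, w, inv_neg, inv_one, neg_neg]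

theorem h_row_fst (hij : i ≠ j) (hik : i ≠ k) (hjk : j ≠ k) (d : Fˣ) (t : F) :
    R.h hij d * R.x i k t * (R.h hij d)⁻¹ = R.x i k ((d : F) * t) := by
  rw [R.h_eq, show R.w i j d * R.w i j (-1) * R.x i k t * (R.w i j d * R.w i j (-1))⁻¹ =
    R.w i j d * (R.w i j (-1) * R.x i k t * (R.w i j (-1))⁻¹) * (R.w i j d)⁻¹ by group,
    R.w_row_fst hij hik hjk (neg_ne_zero.mpr one_ne_zero), R.w_row_snd hij hik hjk d.ne_zero]
  simp

theorem h_row_snd (hij : i ≠ j) (hik : i ≠ k) (hjk : j ≠ k) (d : Fˣ) (t : F) :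
    R.h hij d * R.x j k t * (R.h hij d)⁻¹ = R.x j k ((d : F)⁻¹ * t) := by
  rw [R.h_eq, show R.w i j d * R.w i j (-1) * R.x j k t * (R.w i j d * R.w i j (-1))⁻¹ =
    R.w i j d * (R.w i j (-1) * R.x j k t * (R.w i j (-1))⁻¹) * (R.w i j d)⁻¹ by group,
    R.w_row_snd hij hik hjk (neg_ne_zero.mpr one_ne_zero), R.w_row_fst hij hik hjk d.ne_zero]
  congr 1; ring

theorem h_col_fst (hij : i ≠ j) (hki : k ≠ i) (hkj : k ≠ j) (d : Fˣ) (t : F) :
    R.h hij d * R.x k i t * (R.h hij d)⁻¹ = R.x k i ((d : F)⁻¹ * t) := by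
  rw [R.h_eq, show R.w i j d * R.w i j (-1) * R.x k i t * (R.w i j d * R.w i j (-1))⁻¹ =
    R.w i j d * (R.w i j (-1) * R.x k i t * (R.w i j (-1))⁻¹) * (R.w i j d)⁻¹ by group,
    R.w_col_fst hij hki hkj (neg_ne_zero.mpr one_ne_zero), R.w_col_snd hij hki hkj d.ne_zero]
  congr 1; ring

theorem h_col_snd (hij : i ≠ j) (hki : k ≠ i) (hkj : k ≠ j) (d : Fˣ) (t : F) :
    R.h hij d * R.x k j t * (R.h hij d)⁻¹ = R.x k j ((d : F) * t) := by
  rw [R.h_eq, show R.w i j d * R.w i j (-1) * R.x k j t * (R.w i j d * R.w i j (-1))⁻¹ =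
    R.w i j d * (R.w i j (-1) * R.x k j t * (R.w i j (-1))⁻¹) * (R.w i j d)⁻¹ by group,
    R.w_col_snd hij hki hkj (neg_ne_zero.mpr one_ne_zero), R.w_col_fst hij hki hkj d.ne_zero]
  congr 1; simp [mul_comm]

/-- The torus scales every root group. -/
theorem h_scale (hij : i ≠ j) (d : Fˣ) (hkl : k ≠ l) :
    ∃ c : F, ∀ t, R.h hij d * R.x k l t * (R.h hij d)⁻¹ = R.x k l (c * t) := by
  by_cases hki : k = i
  · subst hki
    by_cases hlj : l = j
    · subst hlj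
      refine ⟨(d : F) ^ 2, fun t => ?_⟩
      rw [h, ← R.f_U hij, ← map_inv, ← map_mul, ← map_mul, mH_conj, R.f_U]
    · exact ⟨d, fun t => R.h_row_fst hij hkl (Ne.symm hlj) d t⟩
  by_cases hkj : k = j
  · subst hkj
    by_cases hli : l = i
    · subst hli
      refine ⟨((d : F) ^ 2)⁻¹, fun t => ?_⟩
      rw [h, ← R.f_L hij, ← map_inv, ← map_mul, ← map_mul, ← R.f_L hij]
      congr 1
      rw [mul_inv_eq_iff_eq_mul]
      apply Subtype.ext
      simp
      field_simp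
    · exact ⟨(d : F)⁻¹, fun t => R.h_row_snd hij (Ne.symm hli) hkl d t⟩
  by_cases hli : l = i
  · subst hli; exact ⟨(d : F)⁻¹, fun t => R.h_col_fst hij hki hkj d t⟩
  by_cases hlj : l = j
  · subst hlj; exact ⟨d, fun t => R.h_col_snd hij hki hkj d t⟩
  refine ⟨1, fun t => ?_⟩
  have hc : ∀ s, Commute (R.x i j s) (R.x k l t) ∧ Commute (R.x j i s) (R.x k l t) := fun s =>
    ⟨R.comm0 i j k l hij hkl (Ne.symm hkj) (Ne.symm hli) s t,
      R.comm0 j i k l hij.symm hkl (Ne.symm hki) (Ne.symm hlj) s t⟩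
  have hw : ∀ e, Commute (R.w i j e) (R.x k l t) := fun e => (((hc _).1).mul_left (hc _).2).mul_left (hc _).1
  rw [R.h_eq, ((hw d).mul_left (hw (-1))).eq, mul_inv_cancel_right, one_mul]

/-- Changing the second index by a monomial element. -/
theorem h_transfer {z e : Fin n} (hze : z ≠ e) (hej : e ≠ j) (hzj : z ≠ j) (d : Fˣ) :
    R.w e j 1 * R.h hze d * (R.w e j 1)⁻¹ = R.h hzj d := by
  have a : ∀ t, R.w e j 1 * R.x z e t * (R.w e j 1)⁻¹ = R.x z j (-t) := fun t => by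
    rw [R.w_col_fst hej hze hzj one_ne_zero, mul_one]
  have b : ∀ t, R.w e j 1 * R.x e z t * (R.w e j 1)⁻¹ = R.x j z (-t) := fun t => by
    rw [R.w_row_fst hej hze.symm hzj.symm one_ne_zero, inv_one, mul_one]
  rw [h, h, mH_eq d]
  conv_rhs => rw [← mH_eq d, mH_eq']
  simp only [map_mul, R.f_U, R.f_L, conj_mul3, a, b, neg_neg]

end RootSys

end Cfsg.Agent.KSG55.Lin
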