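import Cfsg.Agent.KSG55.Lin.Orbit
import Cfsg.Agent.Lib.LinearGroup.Generation

set_option autoImplicit false

/-! The standard elements of `SL₂`. -/

namespace Cfsg.Agent.KSG55.Lin

open Matrix

variable {F : Type*} [Field F]

/-- Upper unipotent. -/
def mU (x : F) : SpecialLinearGroup (Fin 2) F := ⟨!![1, x; 0, 1], by simp [Matrix.det_fin_two]⟩

/-- Diagonal. -/
def mH (a : Fˣ) : SpecialLinearGroup (Fin 2) F :=
  ⟨!![(a : F), 0; 0, ((a⁻¹ : Fˣ) : F)], by simp [Matrix.det_fin_two]⟩

/-- The Weyl element. -/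
def mT : SpecialLinearGroup (Fin 2) F := ⟨!![0, 1; -1, 0], by simp [Matrix.det_fin_two]⟩

@[simp] theorem mU_coe (x : F) : (mU x : Matrix (Fin 2) (Fin 2) F) = !![1, x; 0, 1] := rfl

@[simp] theorem mH_coe (a : Fˣ) : (mH a : Matrix (Fin 2) (Fin 2) F) = !![(a : F), 0; 0, ((a⁻¹ : Fˣ) : F)] := rfl

@[simp] theorem mT_coe : ((mT : SpecialLinearGroup (Fin 2) F) : Matrix (Fin 2) (Fin 2) F) = !![0, 1; -1, 0] := rfl

theorem mU_mul (x y : F) : mU x * mU y = mU (x + y) := by
  apply Subtype.ext; simp [add_comm]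

theorem mU_zero : mU (0 : F) = 1 := by
  apply Subtype.ext; simp [mU, Matrix.one_fin_two]

/-- The root subgroup as a homomorphism. -/
def mUHom : Multiplicative F →* SpecialLinearGroup (Fin 2) F where
  toFun x := mU x.toAdd
  map_one' := mU_zero
  map_mul' _ _ := (mU_mul _ _).symm

theorem mU_pow (x : F) (n : ℕ) : mU x ^ n = mU (n • x) := (map_pow mUHom (Multiplicative.ofAdd x) n).symm

theorem mU_inj {x y : F} (h : mU x = mU y) : x = y := by
  have := congrArg (fun g : SpecialLinearGroup (Fin 2) F => g.1 0 1) h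
  simpa [mU] using this

/-- The torus as a homomorphism. -/
def mHHom : Fˣ →* SpecialLinearGroup (Fin 2) F where
  toFun := mH
  map_one' := by apply Subtype.ext; simp [mH, Matrix.one_fin_two]
  map_mul' a b := by apply Subtype.ext; simp [mul_comm]

theorem mH_pow (a : Fˣ) (n : ℕ) : mH a ^ n = mH (a ^ n) := (map_pow mHHom a n).symm

theorem mH_inv (a : Fˣ) : (mH a)⁻¹ = mH a⁻¹ := (map_inv mHHom a).symm

theorem mH_conj (a : Fˣ) (x : F) : mH a * mU x * (mH a)⁻¹ = mU ((a : F) ^ 2 * x) := by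
  rw [mul_inv_eq_iff_eq_mul]
  apply Subtype.ext
  simp
  field_simp

theorem mT_sq : (mT * mT : SpecialLinearGroup (Fin 2) F) = mH (-1) := by
  apply Subtype.ext; simp

theorem mT_conj (a : Fˣ) : mT * mH a * mT⁻¹ = (mH a)⁻¹ := by
  rw [mul_inv_eq_iff_eq_mul, mH_inv]
  apply Subtype.ext; simp

theorem mT_mU {x : F} (hx : x ≠ 0) :
    mT * mU x * mT⁻¹ = mU (-x⁻¹) * mH (Units.mk0 x hx)⁻¹ * mT * mU (-x⁻¹) := by
  rw [mul_inv_eq_iff_eq_mul]
  apply Subtype.ext
  simp
  field_simp
  simp

theorem orb_mH (a : Fˣ) (x : F) (l : ℕ) : orb (mH a) (mU x) l = mU (((a : F) ^ 2) ^ l * x) := by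
  rw [orb, mH_pow, mH_conj, Units.val_pow_eq_pow_val, ← pow_mul, ← pow_mul, mul_comm l]

theorem polyWord_mH {p : ℕ} [Fact p.Prime] [Algebra (ZMod p) F] (a : Fˣ) (x : F) (P : Polynomial (ZMod p)) :
    polyWord (mH a) (mU x) P = mU (Polynomial.aeval ((a : F) ^ 2) P * x) := by
  have key : ∀ n : ℕ, ((List.range n).map fun l => orb (mH a) (mU x) l ^ (P.coeff l).val).prod =
      mU ((∑ l ∈ Finset.range n, P.coeff l • ((a : F) ^ 2) ^ l) * x) := fun n => by
    induction n with
    | zero => simp [mU_zero]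
    | succ n ih =>
      rw [List.range_succ, List.map_append, List.prod_append, List.map_singleton, List.prod_singleton, ih,
        Finset.sum_range_succ, orb_mH, mU_pow, mU_mul, add_mul, Algebra.smul_def (P.coeff n) (((a : F) ^ 2) ^ n)]
      congr 2
      rw [nsmul_eq_mul, mul_assoc, ← map_natCast (algebraMap (ZMod p) F), ZMod.natCast_zmod_val]
  rw [polyWord, key, Polynomial.aeval_eq_sum_range]

/-- The two root subgroups generate. -/
theorem eq_top_of_mem {H : Subgroup (SpecialLinearGroup (Fin 2) F)} (hT : mT ∈ H) (hU : ∀ x, mU x ∈ H) : H = ⊤ := by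
  refine LinearGroup.eq_top_of_transvection_mem fun i j hij c => ?_
  have up : SpecialLinearGroup.transvection (show (0 : Fin 2) ≠ 1 by decide) c = mU c := by
    apply Subtype.ext
    ext i j
    fin_cases i <;> fin_cases j <;> simp [SpecialLinearGroup.transvection_coe, Matrix.transvection]
  have low : SpecialLinearGroup.transvection (show (1 : Fin 2) ≠ 0 by decide) c = mT * mU (-c) * mT⁻¹ := by
    rw [eq_mul_inv_iff_mul_eq]
    apply Subtype.ext
    ext i j
    fin_cases i <;> fin_cases j <;>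
      simp [SpecialLinearGroup.transvection_coe, Matrix.transvection, Matrix.mul_apply, Fin.sum_univ_two]
  fin_cases i <;> fin_cases j
  · exact absurd rfl hij
  · exact up ▸ hU c
  · exact low ▸ mul_mem (mul_mem hT (hU _)) (inv_mem hT)
  · exact absurd rfl hij

end Cfsg.Agent.KSG55.Lin
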