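import Cfsg.Agent.KSG55.Pres.Basic

set_option autoImplicit false

/-! Presentations of quotients. -/

namespace Cfsg.Agent.KSG55.Pres

/-- Adding one relator passes to the quotient by the normal closure of one element. -/
theorem PresOn.quotient {G : Type*} [Group G] {k r : ℕ} {gens : Fin k → G} (h : PresOn gens r)
    (N : Subgroup G) [N.Normal] (z : G) (hN : N = Subgroup.normalClosure {z}) :
    PresOn (fun i => (QuotientGroup.mk (gens i) : G ⧸ N)) (r + 1) := by
  classical
  obtain ⟨rels, hc, e, he⟩ := h
  have heq : FreeGroup.lift gens = e.toMonoidHom.comp (PresentedGroup.mk _) :=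
    FreeGroup.ext_hom _ _ fun i => by simp [← he i, PresentedGroup.of]
  obtain ⟨W, hW⟩ : ∃ W, FreeGroup.lift gens W = z := by
    rw [heq]
    obtain ⟨W, hW⟩ := PresentedGroup.mk_surjective _ (e.symm z)
    exact ⟨W, by simp [hW]⟩
  have hq : FreeGroup.lift (fun i => (QuotientGroup.mk (gens i) : G ⧸ N)) =
      (QuotientGroup.mk' N).comp (FreeGroup.lift gens) := FreeGroup.ext_hom _ _ fun i => by simp
  refine presOn_of_inj _ (rels.toList ++ [W]) (by simp; omega) ?_ ?_ ?_
  · intro w hw
    rw [hq, MonoidHom.comp_apply]
    rcases List.mem_append.mp hw with h | h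
    · rw [heq, MonoidHom.comp_apply, PresentedGroup.one_of_mem (Finset.mem_coe.mpr (Finset.mem_toList.mp h)), map_one,
        map_one]
    · rw [List.mem_singleton] at h
      subst h
      rw [hW]
      exact (QuotientGroup.eq_one_iff z).mpr (hN ▸ Subgroup.subset_normalClosure rfl)
  · have : Set.range (fun i => (QuotientGroup.mk (gens i) : G ⧸ N)) = QuotientGroup.mk' N '' Set.range gens := by
      rw [← Set.range_comp]; rfl
    rw [this, ← MonoidHom.map_closure, show Subgroup.closure (Set.range gens) = ⊤ by
      rw [← FreeGroup.range_lift_eq_closure, heq, MonoidHom.range_eq_top]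
      exact e.surjective.comp (PresentedGroup.mk_surjective _)]
    exact Subgroup.map_top_of_surjective _ (QuotientGroup.mk'_surjective N)
  · intro H _ U φ hU hr hφ x hx
    have hR : ∀ v ∈ (↑rels : Set (FreeGroup (Fin k))), FreeGroup.lift U v = 1 := fun v hv =>
      hr v (List.mem_append_left _ (Finset.mem_toList.mpr hv))
    let ψ : G →* H := (PresentedGroup.toGroup hR).comp e.symm.toMonoidHom
    have hψ : ∀ i, ψ (gens i) = U i := fun i => by
      simp [ψ, ← he i, PresentedGroup.toGroup.of]
    have hcomp : φ.comp (ψ.comp (FreeGroup.lift gens)) = (QuotientGroup.mk' N).comp (FreeGroup.lift gens) :=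
      FreeGroup.ext_hom _ _ fun i => by simp [hψ, hφ]
    have hz : ψ z = 1 := by
      rw [← hW, ← MonoidHom.comp_apply, show ψ.comp (FreeGroup.lift gens) = FreeGroup.lift U from
        FreeGroup.ext_hom _ _ fun i => by simp [hψ]]
      exact hr W (by simp)
    have hN' : N ≤ ψ.ker := by
      rw [hN]; exact Subgroup.normalClosure_le_normal (Set.singleton_subset_iff.mpr hz)
    obtain ⟨g, rfl⟩ : x ∈ ψ.range := by
      have : Subgroup.closure (Set.range U) ≤ ψ.range := by
        rw [Subgroup.closure_le]; rintro _ ⟨i, rfl⟩; exact ⟨gens i, hψ i⟩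
      rw [hU] at this
      exact this trivial
    obtain ⟨w, hw⟩ := PresentedGroup.mk_surjective _ (e.symm g)
    have hg : FreeGroup.lift gens w = g := by rw [heq]; simp [hw]
    have := DFunLike.congr_fun hcomp w
    simp only [MonoidHom.comp_apply, hg, hx, QuotientGroup.mk'_apply] at this
    exact hN' ((QuotientGroup.eq_one_iff g).mp this.symm)

end Cfsg.Agent.KSG55.Pres
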