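import Cfsg.Agent.KSG55.Lin.Orbit

set_option autoImplicit false

/-! Recovering the minimal relation. -/

namespace Cfsg.Agent.KSG55.Lin

open Polynomial

variable {G : Type*} [Group G] {p : ℕ} [Fact p.Prime]

/-- If `h u h⁻¹` is the word of `P` in a power of `h` and `h` has order dividing `m`, then every polynomial in
the ideal of `X ^ m - 1` and `X - P (X ^ i)` gives a trivial word. -/
theorem polyWord_eq_one {h u : G} {i m : ℕ} (hc : ∀ l, Commute u (orb h u l)) (hu : u ^ p = 1) (hm : h ^ m = 1)
    {P : (ZMod p)[X]} (hP : h * u * h⁻¹ = polyWord (h ^ i) u P) {M : (ZMod p)[X]}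
    (hM : M ∈ Ideal.span ({X ^ m - 1, X - P.comp (X ^ i)} : Set (ZMod p)[X])) : polyWord h u M = 1 := by
  let A := orbGroup h u
  letI : CommGroup A :=
    { (inferInstance : Group A) with
      mul_comm := fun a b => Subtype.ext (orbGroup_commute hc a.2 b.2).eq }
  haveI : Module (ZMod p) (Additive A) := AddCommGroup.zmodModule fun a => by
    have hA : A ≤ ({ carrier := {x | Commute x x ∧ x ^ p = 1 ∧ x ∈ orbGroup h u}
                     one_mem' := ⟨Commute.refl _, one_pow _, one_mem _⟩
                     mul_mem' := fun {a b} ha hb => ⟨Commute.refl _, by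
                       rw [(orbGroup_commute hc ha.2.2 hb.2.2).mul_pow, ha.2.1, hb.2.1, one_mul],
                       mul_mem ha.2.2 hb.2.2⟩
                     inv_mem' := fun {a} ha => ⟨Commute.refl _, by rw [inv_pow, ha.2.1, inv_one],
                       inv_mem ha.2.2⟩ } : Subgroup G) := by
      refine (Subgroup.closure_le _).mpr ?_
      rintro _ ⟨l, rfl⟩
      exact ⟨Commute.refl _, by rw [orb, conj_pow, hu, mul_one, mul_inv_cancel], mem_orbGroup _ _ _⟩
    apply Additive.toMul.injective
    apply Subtype.ext
    simpa using (hA (Additive.toMul a).2).2.1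
  let c : A →* A :=
    { toFun := fun x => ⟨h * x.1 * h⁻¹, orbGroup_conj x.2⟩
      map_one' := Subtype.ext (by simp)
      map_mul' := fun x y => Subtype.ext (by simp only [Subgroup.coe_mul]; group) }
  let f : Module.End (ZMod p) (Additive A) := (MonoidHom.toAdditive c).toZModLinearMap p
  let v : Additive A := Additive.ofMul ⟨orb h u 0, mem_orbGroup _ _ _⟩
  have fpow : ∀ l : ℕ, (f ^ l) v = Additive.ofMul ⟨orb h u l, mem_orbGroup _ _ _⟩ := fun l => by
    induction l with
    | zero => rfl
    | succ l ih =>
      rw [pow_succ', Module.End.mul_apply, ih]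
      exact congrArg Additive.ofMul (Subtype.ext (orb_succ h u l))
  have word : ∀ (k : ℕ) (Q : (ZMod p)[X]), ((aeval (f ^ k) Q v).toMul : A).1 = polyWord (h ^ k) u Q := by
    intro k Q
    rw [aeval_eq_sum_range, LinearMap.sum_apply, polyWord]
    induction Q.natDegree + 1 with
    | zero => rfl
    | succ n ih =>
      rw [Finset.sum_range_succ, toMul_add, Subgroup.coe_mul, ih, List.range_succ, List.map_append, List.prod_append,
        List.map_singleton, List.prod_singleton]
      congr 1
      rw [LinearMap.smul_apply, ← pow_mul, fpow, ← ZMod.natCast_zmod_val (Q.coeff n), Nat.cast_smul_eq_nsmul,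
        ZMod.natCast_zmod_val, toMul_nsmul, toMul_ofMul, Subgroup.coe_pow]
      simp [orb, pow_mul]
  have h1 : aeval f (X ^ m - 1 : (ZMod p)[X]) v = 0 := by
    rw [map_sub, map_pow, aeval_X, map_one, LinearMap.sub_apply, fpow, Module.End.one_apply, sub_eq_zero]
    exact congrArg Additive.ofMul (Subtype.ext (by simp [orb, hm]))
  have h2 : aeval f (X - P.comp (X ^ i)) v = 0 := by
    rw [map_sub, aeval_X, aeval_comp, map_pow, aeval_X, LinearMap.sub_apply, sub_eq_zero]
    apply Additive.toMul.injective
    apply Subtype.ext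
    rw [word i P, ← hP, ← pow_one f, fpow 1]
    simp [orb]
  have h0 : ∀ Q ∈ Ideal.span ({X ^ m - 1, X - P.comp (X ^ i)} : Set (ZMod p)[X]), aeval f Q v = 0 := by
    intro Q hQ
    induction hQ using Submodule.span_induction with
    | mem Q hQ =>
      rcases hQ with rfl | rfl
      · exact h1
      · exact h2
    | zero => simp
    | add a b _ _ ha hb => rw [map_add, LinearMap.add_apply, ha, hb, add_zero]
    | smul r a _ ha => rw [smul_eq_mul, map_mul, Module.End.mul_apply, ha, map_zero]
  have := word 1 M
  rw [pow_one, pow_one, h0 M hM] at this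
  exact this.symm

end Cfsg.Agent.KSG55.Lin
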