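import Cfsg.Agent.KSG55.Lin.Orbit

set_option autoImplicit false

/-! Enumeration by two double cosets. -/

namespace Cfsg.Agent.KSG55.Lin

variable {G : Type*} [Group G]

theorem zpow_conj_mem {h : G} {U : Subgroup G} {m : ℕ} (hm0 : 0 < m) (hm : h ^ m = 1)
    (hUh : ∀ x ∈ U, h * x * h⁻¹ ∈ U) (i : ℤ) {x : G} (hx : x ∈ U) : h ^ i * x * (h ^ i)⁻¹ ∈ U := by
  have key : ∀ k : ℕ, h ^ k * x * (h ^ k)⁻¹ ∈ U := fun k => by
    induction k with
    | zero => simpa using hx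
    | succ k ih =>
      rw [show h ^ (k + 1) * x * (h ^ (k + 1))⁻¹ = h * (h ^ k * x * (h ^ k)⁻¹) * h⁻¹ by rw [pow_succ']; group]
      exact hUh _ ih
  have e : h ^ i = h ^ (i % (m : ℤ)).toNat := by
    rw [← zpow_natCast, Int.toNat_of_nonneg (Int.emod_nonneg i (by omega))]
    exact zpow_eq_zpow_emod' i hm
  rw [e]
  exact key _

/-- The shape `b * t * y`. -/
def BigCell (U : Subgroup G) (h t : G) (g : G) : Prop := ∃ x ∈ U, ∃ i : ℤ, ∃ y ∈ U, g = x * h ^ i * t * y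

theorem bigCell_conj {h t : G} {U : Subgroup G} {m : ℕ} (hm0 : 0 < m) (hm : h ^ m = 1)
    (hUh : ∀ x ∈ U, h * x * h⁻¹ ∈ U) (ht : t * h * t⁻¹ = h⁻¹) {x₀ : G} (hx : BigCell U h t (t * x₀ * t⁻¹))
    (i : ℤ) : BigCell U h t (t * (h ^ i * x₀ * (h ^ i)⁻¹) * t⁻¹) := by
  obtain ⟨x, hx, j, y, hy, e⟩ := hx
  have htz : ∀ k : ℤ, t * h ^ k = h ^ (-k) * t := fun k => by
    have := congrArg (· ^ k) ht
    simp only [conj_zpow, inv_zpow'] at this
    rw [← this]; group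
  refine ⟨_, zpow_conj_mem hm0 hm hUh (-i) hx, -2 * i + j, _, zpow_conj_mem hm0 hm hUh (-i) hy, ?_⟩
  calc t * (h ^ i * x₀ * (h ^ i)⁻¹) * t⁻¹ = (t * h ^ i) * x₀ * (t * h ^ i)⁻¹ := by group
    _ = h ^ (-i) * (t * x₀ * t⁻¹) * h ^ i := by rw [htz]; group
    _ = (h ^ (-i) * x * (h ^ (-i))⁻¹) * h ^ (-i + j) * (t * h ^ i) * ((h ^ i)⁻¹ * y * h ^ i) := by rw [e]; group
    _ = _ := by rw [htz]; group

/-- The order bound. -/
theorem card_le_bruhat {h u t : G} (U : Subgroup G) {q m : ℕ} (hfin : (U : Set G).Finite) (hcard : Nat.card U ≤ q)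
    (hm0 : 0 < m) (hm : h ^ m = 1) (hu : u ∈ U) (hUh : ∀ x ∈ U, h * x * h⁻¹ ∈ U)
    (ht : t * h * t⁻¹ = h⁻¹) (ht2 : ∃ k : ℤ, t * t = h ^ k)
    (key : ∀ x ∈ U, x ≠ 1 → BigCell U h t (t * x * t⁻¹))
    (hgen : Subgroup.closure ({u, h, t} : Set G) = ⊤) :
    Finite G ∧ Nat.card G ≤ q * m * (q + 1) := by
  classical
  obtain ⟨k, hk⟩ := ht2
  have nm : ∀ (i : ℤ) {x : G}, x ∈ U → h ^ i * x * (h ^ i)⁻¹ ∈ U := fun i x hx => zpow_conj_mem hm0 hm hUh i hx
  let X : Set G := {g | (∃ x ∈ U, ∃ i : ℤ, g = x * h ^ i) ∨ BigCell U h t g}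
  have B_mul : ∀ (x : G) (i : ℤ) (y : G) (j : ℤ), x ∈ U → y ∈ U →
      ∃ z ∈ U, x * h ^ i * (y * h ^ j) = z * h ^ (i + j) := fun x i y j hx hy =>
    ⟨x * (h ^ i * y * (h ^ i)⁻¹), mul_mem hx (nm i hy), by group⟩
  have htz : ∀ j : ℤ, t * h ^ j = h ^ (-j) * t := fun j => by
    have := congrArg (· ^ j) ht
    simp only [conj_zpow, inv_zpow'] at this
    rw [← this]; group
  have s_h : ∀ g ∈ X, g * h ∈ X := by
    rintro g (⟨x, hx, i, rfl⟩ | ⟨x, hx, i, y, hy, rfl⟩)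
    · exact Or.inl ⟨x, hx, i + 1, by rw [mul_assoc, zpow_add_one]⟩
    · refine Or.inr ⟨x, hx, i - 1, _, nm (-1) hy, ?_⟩
      have e := htz 1
      calc x * h ^ i * t * y * h = x * h ^ i * (t * h ^ (1 : ℤ)) * ((h ^ (-1 : ℤ)) * y * (h ^ (-1 : ℤ))⁻¹) := by group
        _ = _ := by rw [e]; group
  have s_U : ∀ g ∈ X, ∀ v ∈ U, g * v ∈ X := by
    rintro g (⟨x, hx, i, rfl⟩ | ⟨x, hx, i, y, hy, rfl⟩) v hv
    · obtain ⟨z, hz, e⟩ := B_mul x i v 0 hx hv
      exact Or.inl ⟨z, hz, i + 0, by simpa using e⟩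
    · exact Or.inr ⟨x, hx, i, y * v, mul_mem hy hv, by rw [mul_assoc (x * h ^ i * t)]⟩
  have s_t : ∀ g ∈ X, g * t ∈ X := by
    rintro g (⟨x, hx, i, rfl⟩ | ⟨x, hx, i, y, hy, rfl⟩)
    · exact Or.inr ⟨x, hx, i, 1, one_mem _, by rw [mul_one]⟩
    · by_cases hy1 : y = 1
      · subst hy1
        exact Or.inl ⟨x, hx, i + k, by rw [mul_one, mul_assoc, hk, mul_assoc, zpow_add]⟩
      · obtain ⟨a, ha, j, b, hb, e⟩ := key y hy hy1
        obtain ⟨z, hz, ez⟩ := B_mul x i a j hx ha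
        refine Or.inr ⟨z, hz, i + j - k, _, nm (-k) hb, ?_⟩
        calc x * h ^ i * t * y * t = x * h ^ i * ((t * y * t⁻¹) * (t * t)) := by group
          _ = x * h ^ i * (a * h ^ j) * (t * h ^ k) * ((h ^ (-k)) * b * (h ^ (-k))⁻¹) := by rw [e, hk]; group
          _ = _ := by rw [ez, htz k]; group
  obtain ⟨H, hH⟩ : ∃ H : Finset G, (H : Set G) = Set.range fun i : Fin m => h ^ (i : ℕ) :=
    ⟨Finset.univ.image fun i : Fin m => h ^ (i : ℕ), by simp⟩
  have memH : ∀ i : ℤ, h ^ i ∈ H := fun i => by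
    rw [← Finset.mem_coe, hH]
    have := Int.emod_lt_of_pos i (show (0 : ℤ) < m by omega)
    have := Int.emod_nonneg i (show (m : ℤ) ≠ 0 by omega)
    refine ⟨⟨(i % (m : ℤ)).toNat, by omega⟩, ?_⟩
    show h ^ (i % (m : ℤ)).toNat = h ^ i
    rw [← zpow_natCast, Int.toNat_of_nonneg (by omega)]
    exact (zpow_eq_zpow_emod' i hm).symm
  have hHc : H.card ≤ m := by
    rw [← Set.ncard_coe_finset, hH, ← Nat.card_coe_set_eq]
    exact (Finite.card_range_le _).trans (by simp)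
  set TU := hfin.toFinset with hTU
  have hTUc : TU.card ≤ q := by
    rw [hTU, ← Nat.card_eq_card_finite_toFinset hfin]; exact hcard
  let T : Finset G := (TU ×ˢ H).image (fun z => z.1 * z.2) ∪
    ((TU ×ˢ H) ×ˢ TU).image (fun z => z.1.1 * z.1.2 * t * z.2)
  have hXT : X ⊆ T := by
    rintro g (⟨x, hx, i, rfl⟩ | ⟨x, hx, i, y, hy, rfl⟩)
    · exact Finset.mem_union_left _ (Finset.mem_image.mpr ⟨(x, h ^ i),
        Finset.mem_product.mpr ⟨hfin.mem_toFinset.mpr hx, memH i⟩, rfl⟩)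
    · exact Finset.mem_union_right _ (Finset.mem_image.mpr ⟨((x, h ^ i), y),
        Finset.mem_product.mpr ⟨Finset.mem_product.mpr ⟨hfin.mem_toFinset.mpr hx, memH i⟩,
          hfin.mem_toFinset.mpr hy⟩, rfl⟩)
  have hTc : T.card ≤ q * m * (q + 1) := by
    refine (Finset.card_union_le _ _).trans ?_
    have h1 := (Finset.card_image_le (s := TU ×ˢ H) (f := fun z => z.1 * z.2))
    have h2 := (Finset.card_image_le (s := (TU ×ˢ H) ×ˢ TU) (f := fun z => z.1.1 * z.1.2 * t * z.2))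
    rw [Finset.card_product] at h1
    rw [Finset.card_product, Finset.card_product] at h2
    calc _ ≤ TU.card * H.card + TU.card * H.card * TU.card := Nat.add_le_add h1 h2
      _ ≤ q * m + q * m * q := Nat.add_le_add (Nat.mul_le_mul hTUc hHc)
          (Nat.mul_le_mul (Nat.mul_le_mul hTUc hHc) hTUc)
      _ = q * m * (q + 1) := by ring
  have Xfin : X.Finite := T.finite_toSet.subset hXT
  -- right translations permute the finite set
  have inv_step : ∀ g : G, (∀ a ∈ X, a * g ∈ X) → ∀ a ∈ X, a * g⁻¹ ∈ X := by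
    intro g hg a ha
    have hsub : (· * g) '' X ⊆ X := by rintro _ ⟨b, hb, rfl⟩; exact hg b hb
    have heq : (· * g) '' X = X :=
      Set.eq_of_subset_of_ncard_le hsub (by rw [Set.ncard_image_of_injective X (mul_left_injective g)]) Xfin
    obtain ⟨b, hb, rfl⟩ := heq.symm ▸ ha
    simpa using hb
  have gens : ∀ g ∈ ({u, h, t} : Set G), ∀ a ∈ X, a * g ∈ X := by
    rintro g (rfl | rfl | rfl) a ha
    exacts [s_U a ha _ hu, s_h a ha, s_t a ha]
  have all : ∀ g : G, g ∈ X := by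
    intro g
    have hg : g ∈ Subgroup.closure ({u, h, t} : Set G) := by rw [hgen]; trivial
    induction hg using Subgroup.closure_induction_right with
    | one => exact Or.inl ⟨1, one_mem _, 0, by simp⟩
    | mul_right a _ z hz ih => exact gens z hz a ih
    | mul_inv_cancel a _ z hz ih => exact inv_step z (gens z hz) a ih
  have : Finite G := Set.finite_univ_iff.mp (Xfin.subset fun g _ => all g)
  refine ⟨this, le_trans ?_ hTc⟩
  rw [← Nat.card_eq_finsetCard T]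
  exact Nat.card_le_card_of_injective (fun g => (⟨g, hXT (all g)⟩ : T)) (fun a b e => by simpa using e)

end Cfsg.Agent.KSG55.Lin
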