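import Cfsg.Agent.KSG55.Lin.Orbit

set_option autoImplicit false

/-! Choices inside a finite field. -/

namespace Cfsg.Agent.KSG55.Lin

open Polynomial

variable {F : Type*} [Field F] [Fintype F] {p : ℕ} [Fact p.Prime] [Algebra (ZMod p) F]

theorem exists_aeval {s : F} (hs : Algebra.adjoin (ZMod p) {s} = ⊤) (x : F) :
    ∃ P : (ZMod p)[X], aeval s P = x := by
  have : x ∈ Algebra.adjoin (ZMod p) {s} := by rw [hs]; trivial
  rwa [Algebra.adjoin_singleton_eq_range_aeval] at this

/-- The minimal polynomial gives at most `q` elements. -/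
theorem pow_natDegree_minpoly_le (x : F) : p ^ (minpoly (ZMod p) x).natDegree ≤ Fintype.card F := by
  rw [Module.card_eq_pow_finrank (K := ZMod p) (V := F), ZMod.card]
  exact Nat.pow_le_pow_right (Fact.out : p.Prime).pos (minpoly.natDegree_le x)

/-- An element outside generation lies in a small subfield. -/
theorem exists_subfield_pow {x : F} (hx : Algebra.adjoin (ZMod p) {x} ≠ ⊤) :
    ∃ d : ℕ, 1 ≤ d ∧ x ^ p ^ d = x ∧ p ^ d * p ^ d ≤ Fintype.card F := by
  have halg : IsAlgebraic (ZMod p) x := Algebra.IsAlgebraic.isAlgebraic x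
  set K := IntermediateField.adjoin (ZMod p) {x} with hK
  have hKA : K.toSubalgebra = Algebra.adjoin (ZMod p) {x} :=
    IntermediateField.adjoin_simple_toSubalgebra_of_isAlgebraic halg
  haveI : Fintype K := Fintype.ofFinite K
  set d := Module.finrank (ZMod p) K with hd
  have hcard : Fintype.card K = p ^ d := by rw [Module.card_eq_pow_finrank (K := ZMod p) (V := K), ZMod.card]
  have hne : Module.finrank K F ≠ 1 := by
    intro h1
    apply hx
    rw [← hKA, IntermediateField.finrank_eq_one_iff_eq_top.mp h1]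
    rfl
  have htower := Module.finrank_mul_finrank (ZMod p) K F
  have hpos : 0 < Module.finrank K F := Module.finrank_pos
  have hdpos : 1 ≤ d := Module.finrank_pos
  refine ⟨d, hdpos, ?_, ?_⟩
  · have := FiniteField.pow_card (⟨x, IntermediateField.mem_adjoin_simple_self _ x⟩ : K)
    rw [hcard] at this
    exact congrArg Subtype.val this
  · rw [← pow_add, Module.card_eq_pow_finrank (K := ZMod p) (V := F), ZMod.card]
    refine Nat.pow_le_pow_right (Fact.out : p.Prime).pos ?_
    rw [← htower, ← hd]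
    have : d * 2 ≤ d * Module.finrank K F := Nat.mul_le_mul_left _ (by omega)
    omega

/-- Elements of large order generate. -/
theorem adjoin_eq_top_of_orderOf {x : F} (hx : x ≠ 0) (h : Fintype.card F - 1 ≤ 2 * orderOf x) :
    Algebra.adjoin (ZMod p) {x} = ⊤ := by
  by_contra hne
  obtain ⟨d, hd, he, hr⟩ := exists_subfield_pow hne
  have h2 : 2 ≤ p ^ d := le_trans (Fact.out : p.Prime).two_le (Nat.le_self_pow (by omega) p)
  have h1 : x ^ (p ^ d - 1) = 1 := by
    have : x ^ (p ^ d - 1) * x = 1 * x := by rw [← pow_succ, Nat.sub_add_cancel (by omega), he, one_mul]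
    exact mul_right_cancel₀ hx this
  have := Nat.le_of_dvd (by omega) (orderOf_dvd_of_pow_eq_one h1)
  obtain ⟨r, hrr⟩ : ∃ r, p ^ d = r + 2 := ⟨p ^ d - 2, by omega⟩
  rw [hrr] at hr this
  have e : (r + 2) * (r + 2) = r * r + 4 * r + 4 := by ring
  rw [e] at hr
  omega

/-- The polynomial linking the two powers, and the ideal it generates. -/
theorem exists_link_poly {α : F} (hα : α ≠ 0) {i : ℕ}
    (hs : Algebra.adjoin (ZMod p) {α ^ i} = ⊤) :
    ∃ P : (ZMod p)[X], aeval (α ^ i) P = α ∧
      minpoly (ZMod p) α ∈ Ideal.span ({X ^ (Fintype.card F - 1) - 1, X - P.comp (X ^ i)} : Set (ZMod p)[X]) := by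
  set m := Fintype.card F - 1 with hm
  have hmpos : 0 < m := by have := Fintype.one_lt_card (α := F); omega
  have hpow : ∀ y : F, y ≠ 0 → y ^ m = 1 := fun y hy => FiniteField.pow_card_sub_one_eq_one y hy
  set s := α ^ i with hsd
  have hint : IsIntegral (ZMod p) s := Algebra.IsIntegral.isIntegral s
  set Ms := minpoly (ZMod p) s
  obtain ⟨R, hR⟩ : Ms ∣ X ^ m - 1 := minpoly.dvd _ _ (by simp [hpow s (pow_ne_zero i hα)])
  have hsepm : (X ^ m - 1 : (ZMod p)[X]).Separable := by
    rw [← C_1]
    refine Polynomial.separable_X_pow_sub_C (F := ZMod p) 1 ?_ one_ne_zero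
    intro hzero
    have hdvd : p ∣ m := (ZMod.natCast_eq_zero_iff m p).mp hzero
    have hcard : p ∣ Fintype.card F := by
      rw [Module.card_eq_pow_finrank (K := ZMod p) (V := F), ZMod.card]
      exact dvd_pow_self p Module.finrank_pos.ne'
    have : p ∣ Fintype.card F - m := Nat.dvd_sub hcard hdvd
    rw [show Fintype.card F - m = 1 by omega] at this
    exact (Fact.out : p.Prime).not_dvd_one this
  have hcop : IsCoprime Ms R := (hR ▸ hsepm).isCoprime
  have hRs : aeval s R ≠ 0 := by
    intro h0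
    obtain ⟨A, B, hAB⟩ := hcop
    have := congrArg (aeval s) hAB
    simp [h0, minpoly.aeval, Ms] at this
  obtain ⟨P₁, hP₁⟩ := exists_aeval hs (α * (aeval s R)⁻¹)
  refine ⟨P₁ * R, by rw [map_mul, hP₁]; field_simp, ?_⟩
  set P := P₁ * R with hPd
  have hPs : aeval s P = α := by rw [hPd, map_mul, hP₁]; field_simp
  set I := Ideal.span ({X ^ m - 1, X - P.comp (X ^ i)} : Set (ZMod p)[X]) with hI
  obtain ⟨D, hD⟩ := (IsPrincipalIdealRing.principal I).principal
  have hDI : I = Ideal.span {D} := hD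
  rw [hDI, Ideal.mem_span_singleton]
  have d1 : D ∣ X ^ m - 1 := Ideal.mem_span_singleton.mp (hDI ▸ Ideal.subset_span (Or.inl rfl))
  have d2 : D ∣ X - P.comp (X ^ i) := Ideal.mem_span_singleton.mp (hDI ▸ Ideal.subset_span (Or.inr rfl))
  set φ := algebraMap (ZMod p) F
  rw [← Polynomial.map_dvd_map' φ]
  have hD0 : D ≠ 0 := ne_zero_of_dvd_ne_zero hsepm.ne_zero d1
  have hDsep : (D.map φ).Separable := (hsepm.of_dvd d1).map
  have hsplit : (D.map φ).Splits := by
    refine Polynomial.Splits.of_dvd (g := (X ^ m - 1 : (ZMod p)[X]).map φ) ?_ ?_ (map_dvd φ d1)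
    · rw [Polynomial.map_sub, Polynomial.map_pow, map_X, Polynomial.map_one, ← C_1]
      obtain ⟨ζ, hζ⟩ := IsCyclic.exists_ofOrder_eq_natCard (α := Fˣ)
      rw [Nat.card_units, Nat.card_eq_fintype_card, ← hm] at hζ
      exact X_pow_sub_C_splits_of_isPrimitiveRoot
        (IsPrimitiveRoot.coe_units_iff.mpr (hζ ▸ IsPrimitiveRoot.orderOf ζ)) (one_pow m)
    · exact (Polynomial.map_ne_zero_iff φ.injective).mpr hsepm.ne_zero
  rw [hsplit.eq_prod_roots]
  refine (Polynomial.isUnit_C.mpr (isUnit_iff_ne_zero.mpr (leadingCoeff_ne_zero.mpr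
    ((Polynomial.map_ne_zero_iff φ.injective).mpr hD0)))).mul_left_dvd.mpr ?_
  rw [Multiset.prod_X_sub_C_dvd_iff_le_roots ((Polynomial.map_ne_zero_iff φ.injective).mpr
    (minpoly.ne_zero (Algebra.IsIntegral.isIntegral α)))]
  refine (Multiset.le_iff_subset (nodup_roots hDsep)).mpr fun β hβ => ?_
  rw [mem_roots ((Polynomial.map_ne_zero_iff φ.injective).mpr (minpoly.ne_zero (Algebra.IsIntegral.isIntegral α)))]
  have hβ' : aeval β D = 0 := by
    rw [aeval_def, ← eval_map]; exact (mem_roots'.mp hβ).2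
  have b1 : β ^ m = 1 := by
    obtain ⟨c, hc⟩ := d1
    have := congrArg (aeval β) hc
    rw [map_sub, map_pow, aeval_X, map_one, map_mul, hβ', zero_mul, sub_eq_zero] at this
    exact this
  have b2 : β = aeval (β ^ i) P := by
    obtain ⟨c, hc⟩ := d2
    have := congrArg (aeval β) hc
    rw [map_sub, aeval_X, aeval_comp, map_pow, aeval_X, map_mul (aeval β) D c, hβ', zero_mul, sub_eq_zero] at this
    exact this
  have hy : aeval (β ^ i) Ms = 0 := by
    by_contra hne
    have h0 : aeval (β ^ i) Ms * aeval (β ^ i) R = 0 := by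
      rw [← map_mul, ← hR, map_sub, map_pow, aeval_X, map_one, ← pow_mul, mul_comm, pow_mul, b1, one_pow, sub_self]
    have hR0 := (mul_eq_zero.mp h0).resolve_left hne
    rw [hPd, map_mul, hR0, mul_zero] at b2
    rw [b2, zero_pow hmpos.ne'] at b1
    exact zero_ne_one b1
  have hdiv : Ms ∣ (minpoly (ZMod p) α).comp P := minpoly.dvd _ _ (by rw [aeval_comp, hPs, minpoly.aeval])
  obtain ⟨c, hc⟩ := hdiv
  have : aeval β (minpoly (ZMod p) α) = 0 := by
    rw [b2, ← aeval_comp, hc, map_mul, hy, zero_mul]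
  rwa [IsRoot, eval_map, ← aeval_def]

/-- Two powers of a generating square differing by one. -/
theorem exists_link_exponents (hp : p ≠ 2) (h9 : 9 < Fintype.card F) {a : Fˣ} (ha : ∀ x : Fˣ, x ∈ Subgroup.zpowers a) :
    ∃ i j : ℕ, ((a : F) ^ 2) ^ i + 1 = ((a : F) ^ 2) ^ j ∧
      Algebra.adjoin (ZMod p) {((a : F) ^ 2) ^ i} = ⊤ := by
  have hord : orderOf (a : F) = Fintype.card F - 1 := by
    rw [orderOf_units, orderOf_eq_card_of_forall_mem_zpowers ha, Nat.card_units, Nat.card_eq_fintype_card]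
  haveI : CharP F p := charP_of_injective_algebraMap (algebraMap (ZMod p) F).injective p
  have h2 : (2 : F) ≠ 0 := by
    intro h
    have : ((2 : ℕ) : F) = 0 := by exact_mod_cast h
    have := (CharP.cast_eq_zero_iff F p 2).mp this
    exact hp ((Nat.prime_dvd_prime_iff_eq Fact.out Nat.prime_two).mp this)
  set A : F := (a : F)
  have hA : A ≠ 0 := a.ne_zero
  have small : ∀ k, 0 < k → k < Fintype.card F - 1 → A ^ k ≠ 1 := fun k hk hk' e => by
    have := Nat.le_of_dvd hk (orderOf_dvd_of_pow_eq_one e); omega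
  have get : ∀ x : F, x ≠ 0 → ∃ k : ℕ, A ^ k = x := fun x hx => by
    obtain ⟨k, hk⟩ := mem_powers_iff_mem_zpowers.mpr (ha (Units.mk0 x hx))
    exact ⟨k, by simpa [A] using congrArg Units.val hk⟩
  obtain ⟨i, hi⟩ := get ((A - A⁻¹) / 2) (by
    intro h
    rcases div_eq_zero_iff.mp h with h | h
    · rw [sub_eq_zero] at h
      have e : A ^ 2 = 1 := by rw [pow_two]; nth_rewrite 2 [h]; exact mul_inv_cancel₀ hA
      exact small 2 (by omega) (by omega) e
    · exact h2 h)
  obtain ⟨j, hj⟩ := get ((A + A⁻¹) / 2) (by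
    intro h
    rcases div_eq_zero_iff.mp h with h | h
    · have e : A ^ 4 = 1 := by
        have h' : A * A = -1 := by field_simp at h; linear_combination h
        linear_combination (A * A - 1) * h'
      exact small 4 (by omega) (by omega) e
    · exact h2 h)
  have hs : (A ^ 2) ^ i = (A ^ 2 - 2 + (A ^ 2)⁻¹) / 4 := by
    rw [← pow_mul, mul_comm 2 i, pow_mul, hi, show (4 : F) = 2 * 2 by norm_num]
    field_simp
    ring
  refine ⟨i, j, ?_, ?_⟩
  · rw [hs, ← pow_mul, mul_comm 2 j, pow_mul, hj, show (4 : F) = 2 * 2 by norm_num]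
    field_simp
    ring
  · by_contra hne
    obtain ⟨d, hd, he, hr⟩ := exists_subfield_pow hne
    rw [hs] at he
    set r := p ^ d
    set β := A ^ 2 with hβ
    have hβ0 : β ≠ 0 := pow_ne_zero 2 hA
    have frob : ∀ x y : F, (x + y) ^ r = x ^ r + y ^ r := fun x y => add_pow_char_pow x y p d
    have cst : ∀ c : ℕ, ((c : F)) ^ r = c := fun c => by
      rw [← map_natCast (algebraMap (ZMod p) F), ← map_pow, ZMod.pow_card_pow]
    have e1 : β ^ r + (β ^ r)⁻¹ = β + β⁻¹ := by
      have hc2 : ((2 : ℕ) : F) ^ r = (2 : ℕ) := cst 2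
      have hc4 : ((4 : ℕ) : F) ^ r = (4 : ℕ) := cst 4
      push_cast at hc2 hc4
      have h4 : (4 : F) ≠ 0 := by rw [show (4 : F) = 2 * 2 by norm_num]; exact mul_ne_zero h2 h2
      have hsub : (β - 2 + β⁻¹) ^ r = β ^ r - 2 + (β ^ r)⁻¹ := by
        rw [frob, inv_pow, sub_pow_char_pow, hc2]
      rw [div_pow, hsub, hc4, div_left_inj' h4] at he
      linear_combination he
    have e2 : (β ^ r - β) * (β ^ r * β - 1) = 0 := by
      have hr0 : β ^ r ≠ 0 := pow_ne_zero r hβ0
      field_simp at e1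
      linear_combination e1
    have h2r : 2 ≤ r := le_trans (Fact.out : p.Prime).two_le (Nat.le_self_pow (by omega) p)
    have hrq : 3 < r ∨ r ≤ 3 := by omega
    have hbound : 2 * (r + 1) < Fintype.card F - 1 := by
      rcases hrq with h | h
      · obtain ⟨t, ht⟩ : ∃ t, r = t + 4 := ⟨r - 4, by omega⟩
        rw [ht] at hr ⊢
        have e : (t + 4) * (t + 4) = t * t + 8 * t + 16 := by ring
        rw [e] at hr
        omega
      · have hodd : Odd (Fintype.card F) := by
          rw [Module.card_eq_pow_finrank (K := ZMod p) (V := F), ZMod.card]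
          exact ((Fact.out : p.Prime).odd_of_ne_two hp).pow
        obtain ⟨t, ht⟩ := hodd
        omega
    rcases mul_eq_zero.mp e2 with h | h
    · rw [sub_eq_zero, hβ, ← pow_mul] at h
      have : A ^ (2 * (r - 1)) = 1 := by
        refine mul_right_cancel₀ (pow_ne_zero 2 hA) ?_
        rw [← pow_add, one_mul, show 2 * (r - 1) + 2 = 2 * r by omega]
        exact h
      exact small _ (by omega) (by omega) this
    · rw [sub_eq_zero, hβ, ← pow_mul, ← pow_add] at h
      exact small _ (by omega) (by omega) h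

end Cfsg.Agent.KSG55.Lin
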