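import Mathlib

set_option autoImplicit false

/-! An element whose conjugates under a cyclic group commute. -/

namespace Cfsg.Agent.KSG55.Lin

variable {G : Type*} [Group G] {p : ℕ}

/-- The conjugate by the `l`th power. -/
def orb (h u : G) (l : ℕ) : G := h ^ l * u * (h ^ l)⁻¹

theorem orb_zero (h u : G) : orb h u 0 = u := by simp [orb]

theorem orb_add (h u : G) (i l : ℕ) : h ^ i * orb h u l * (h ^ i)⁻¹ = orb h u (i + l) := by
  simp only [orb, pow_add]; group

theorem orb_succ (h u : G) (l : ℕ) : h * orb h u l * h⁻¹ = orb h u (l + 1) := by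
  simpa [Nat.add_comm] using orb_add h u 1 l

theorem map_orb {H : Type*} [Group H] (φ : G →* H) (h u : G) (l : ℕ) : φ (orb h u l) = orb (φ h) (φ u) l := by
  simp [orb]

/-- The word of a polynomial. -/
def polyWord (h u : G) (P : Polynomial (ZMod p)) : G :=
  ((List.range (P.natDegree + 1)).map fun l => orb h u l ^ (P.coeff l).val).prod

theorem map_polyWord {H : Type*} [Group H] (φ : G →* H) (h u : G) (P : Polynomial (ZMod p)) :
    φ (polyWord h u P) = polyWord (φ h) (φ u) P := by
  simp only [polyWord, map_list_prod, List.map_map]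
  congr 1
  exact List.map_congr_left fun l _ => by simp [map_orb]

/-- All conjugates commute, if they do with the first. -/
theorem orb_commute {h u : G} (hc : ∀ l, Commute u (orb h u l)) (i j : ℕ) :
    Commute (orb h u i) (orb h u j) := by
  rcases le_total i j with hij | hij
  · obtain ⟨d, rfl⟩ := Nat.exists_eq_add_of_le hij
    rw [← orb_add h u i d]
    exact (Commute.conj_iff _).mpr (hc d)
  · obtain ⟨d, rfl⟩ := Nat.exists_eq_add_of_le hij
    rw [← orb_add h u j d]
    exact ((Commute.conj_iff _).mpr (hc d)).symm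

/-- The subgroup generated by the conjugates. -/
def orbGroup (h u : G) : Subgroup G := Subgroup.closure (Set.range (orb h u))

theorem mem_orbGroup (h u : G) (l : ℕ) : orb h u l ∈ orbGroup h u := Subgroup.subset_closure ⟨l, rfl⟩

theorem orbGroup_commute {h u : G} (hc : ∀ l, Commute u (orb h u l)) {x y : G} (hx : x ∈ orbGroup h u)
    (hy : y ∈ orbGroup h u) : Commute x y := by
  have h1 : orbGroup h u ≤ Subgroup.centralizer (Set.range (orb h u)) := by
    rw [orbGroup, Subgroup.closure_le]
    rintro _ ⟨i, rfl⟩
    exact Subgroup.mem_centralizer_iff.mpr (by rintro _ ⟨j, rfl⟩; exact (orb_commute hc j i).eq)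
  have h2 : orbGroup h u ≤ Subgroup.centralizer (orbGroup h u : Set G) := by
    rw [orbGroup, Subgroup.closure_le]
    rintro _ ⟨i, rfl⟩
    exact Subgroup.mem_centralizer_iff.mpr fun z hz =>
      (Subgroup.mem_centralizer_iff.mp (h1 hz) _ ⟨i, rfl⟩).symm
  exact Subgroup.mem_centralizer_iff.mp (h2 hy) x hx

theorem orbGroup_conj {h u x : G} (hx : x ∈ orbGroup h u) : h * x * h⁻¹ ∈ orbGroup h u := by
  induction hx using Subgroup.closure_induction with
  | mem x hx => obtain ⟨l, rfl⟩ := hx; rw [orb_succ]; exact mem_orbGroup _ _ _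
  | one => simp
  | mul a b _ _ ha hb => rw [show h * (a * b) * h⁻¹ = (h * a * h⁻¹) * (h * b * h⁻¹) by group]; exact mul_mem ha hb
  | inv a _ ha => rw [show h * a⁻¹ * h⁻¹ = (h * a * h⁻¹)⁻¹ by group]; exact inv_mem ha

/-- A group with `k` commuting generators of order dividing `p`. -/
theorem card_closure_le (hp : 0 < p) (f : ℕ → G) (hcomm : ∀ i j, Commute (f i) (f j)) (hpow : ∀ i, f i ^ p = 1)
    (k : ℕ) : ((Subgroup.closure (f '' Set.Iio k) : Subgroup G) : Set G).Finite ∧
      Nat.card (Subgroup.closure (f '' Set.Iio k) : Subgroup G) ≤ p ^ k := by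
  classical
  suffices h : ∃ T : Finset G, ((Subgroup.closure (f '' Set.Iio k) : Subgroup G) : Set G) ⊆ T ∧ T.card ≤ p ^ k by
    obtain ⟨T, hT, hc⟩ := h
    refine ⟨T.finite_toSet.subset hT, le_trans ?_ hc⟩
    rw [← Nat.card_eq_finsetCard T]
    exact Nat.card_le_card_of_injective (fun g => (⟨g.1, hT g.2⟩ : T))
      (fun a b e => Subtype.ext (by simpa using e))
  induction k with
  | zero => exact ⟨{1}, by simp, by simp⟩
  | succ k ih =>
    obtain ⟨T, hT, hc⟩ := ih
    set B := Subgroup.closure (f '' Set.Iio k) with hB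
    refine ⟨(T ×ˢ Finset.range p).image fun x => x.1 * f k ^ x.2, fun g hg => ?_, ?_⟩
    · have hle : Subgroup.closure (f '' Set.Iio (k + 1)) ≤ B ⊔ Subgroup.zpowers (f k) := by
        rw [Subgroup.closure_le]
        rintro _ ⟨i, hi, rfl⟩
        rcases Nat.lt_succ_iff_lt_or_eq.mp (Set.mem_Iio.mp hi) with h | rfl
        · exact (le_sup_left (α := Subgroup G)) (Subgroup.subset_closure ⟨i, h, rfl⟩)
        · exact (le_sup_right (α := Subgroup G)) (Subgroup.mem_zpowers _)
      have hn : Subgroup.zpowers (f k) ≤ Subgroup.normalizer (B : Set G) := by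
        refine Subgroup.zpowers_le.mpr (Subgroup.centralizer_le_normalizer _ ?_)
        refine Subgroup.mem_centralizer_iff.mpr fun b hb => ?_
        have : B ≤ Subgroup.centralizer {f k} := by
          rw [hB, Subgroup.closure_le]
          rintro _ ⟨i, -, rfl⟩
          exact Subgroup.mem_centralizer_singleton_iff.mpr (hcomm i k).eq
        exact Subgroup.mem_centralizer_singleton_iff.mp (this hb)
      have hg' := hle hg
      rw [← SetLike.mem_coe, Subgroup.coe_mul_of_right_le_normalizer_left _ _ hn] at hg'
      obtain ⟨b, hb, _, ⟨e, rfl⟩, rfl⟩ := hg'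
      refine Finset.mem_image.mpr ⟨(b, (e % (p : ℤ)).toNat), Finset.mem_product.mpr ⟨hT hb, Finset.mem_range.mpr ?_⟩, ?_⟩
      · have := Int.emod_lt_of_pos e (show (0 : ℤ) < p by omega)
        have := Int.emod_nonneg e (show (p : ℤ) ≠ 0 by omega)
        omega
      · show b * f k ^ (e % (p : ℤ)).toNat = b * f k ^ e
        congr 1
        rw [← zpow_natCast, Int.toNat_of_nonneg (Int.emod_nonneg e (by omega))]
        exact (zpow_eq_zpow_emod' e (hpow k)).symm
    · calc ((T ×ˢ Finset.range p).image fun x => x.1 * f k ^ x.2).card ≤ (T ×ˢ Finset.range p).card :=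
            Finset.card_image_le
        _ ≤ p ^ k * p := by rw [Finset.card_product, Finset.card_range]; exact Nat.mul_le_mul_right p hc
        _ = p ^ (k + 1) := by rw [pow_succ]

/-- A monic relation of degree `k` bounds the group of conjugates by `p ^ k`. -/
theorem card_orbGroup_le [hp : Fact p.Prime] {h u : G} (hc : ∀ l, Commute u (orb h u l)) (hu : u ^ p = 1)
    {M : Polynomial (ZMod p)} (hM : M.Monic) (hrel : polyWord h u M = 1) :
    (orbGroup h u : Set G).Finite ∧ Nat.card (orbGroup h u) ≤ p ^ M.natDegree := by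
  set k := M.natDegree with hk
  set B := Subgroup.closure (orb h u '' Set.Iio k) with hB
  have hkB : orb h u k ∈ B := by
    rw [polyWord, List.range_succ, List.map_append, List.prod_append, List.map_singleton, List.prod_singleton,
      show M.coeff k = 1 from hM.coeff_natDegree, ZMod.val_one, pow_one] at hrel
    rw [eq_inv_of_mul_eq_one_right hrel]
    refine inv_mem (Subgroup.list_prod_mem _ fun g hg => ?_)
    obtain ⟨l, hl, rfl⟩ := List.mem_map.mp hg
    exact pow_mem (Subgroup.subset_closure (k := orb h u '' Set.Iio k) ⟨l, Set.mem_Iio.mpr (List.mem_range.mp hl), rfl⟩) _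
  have hconj : ∀ x ∈ B, h * x * h⁻¹ ∈ B := fun x hx => by
    induction hx using Subgroup.closure_induction with
    | mem x hx =>
      obtain ⟨l, hl, rfl⟩ := hx
      rw [orb_succ]
      rcases Nat.lt_or_eq_of_le (Nat.succ_le_of_lt (Set.mem_Iio.mp hl)) with h' | h'
      · exact Subgroup.subset_closure ⟨l + 1, h', rfl⟩
      · rwa [show l + 1 = k from h']
    | one => simp
    | mul a b _ _ ha hb => rw [show h * (a * b) * h⁻¹ = (h * a * h⁻¹) * (h * b * h⁻¹) by group]; exact mul_mem ha hb
    | inv a _ ha => rw [show h * a⁻¹ * h⁻¹ = (h * a * h⁻¹)⁻¹ by group]; exact inv_mem ha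
  have hall : ∀ l, orb h u l ∈ B := by
    intro l
    induction l with
    | zero =>
      rcases Nat.eq_zero_or_pos k with h0 | h0
      · rwa [h0] at hkB
      · exact Subgroup.subset_closure ⟨0, h0, rfl⟩
    | succ l ih => rw [← orb_succ]; exact hconj _ ih
  have heq : orbGroup h u = B := le_antisymm ((Subgroup.closure_le _).mpr (by rintro _ ⟨l, rfl⟩; exact hall l))
    (Subgroup.closure_mono (Set.image_subset_range _ _))
  rw [heq]
  exact card_closure_le hp.out.pos _ (orb_commute hc) (fun l => by rw [orb, conj_pow, hu, mul_one, mul_inv_cancel]) k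

/-- Commutation from one linking relation. -/
theorem commute_of_link {a b u : G} (hab : Commute a b) (h1 : Commute u (a * u * a⁻¹))
    (hlink : b * u * b⁻¹ = u * (a * u * a⁻¹)) : ∀ l, Commute u (orb a u l) := by
  have hb : ∀ l, b * orb a u l * b⁻¹ = orb a u l * orb a u (l + 1) := fun l => by
    have hc : b * a ^ l = a ^ l * b := ((hab.pow_left l).eq).symm
    calc b * orb a u l * b⁻¹ = (b * a ^ l) * u * (b * a ^ l)⁻¹ := by rw [orb]; group
      _ = a ^ l * (b * u * b⁻¹) * (a ^ l)⁻¹ := by rw [hc]; group
      _ = _ := by rw [hlink, orb, orb, pow_succ]; group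
  have h1' : Commute u (orb a u 1) := by simpa [orb] using h1
  intro l
  induction l using Nat.strong_induction_on with
  | _ l ih =>
    rcases l with _ | _ | n
    · rw [orb_zero]
    · exact h1'
    · have s : ∀ i d, d < n + 2 → Commute (orb a u i) (orb a u (i + d)) := fun i d hd => by
        rw [← orb_add a u i d]; exact (Commute.conj_iff _).mpr (ih d hd)
      have e := (Commute.conj_iff b).mpr (ih (n + 1) (by omega))
      have q0 := hb 0
      rw [orb_zero, zero_add] at q0
      rw [q0, hb (n + 1)] at e
      have c1 : Commute (orb a u 1) (orb a u (n + 1) * orb a u (n + 2)) := by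
        refine Commute.mul_right ?_ ?_
        · have := s 1 n (by omega); rwa [Nat.add_comm 1 n] at this
        · have := s 1 (n + 1) (by omega); rwa [show 1 + (n + 1) = n + 2 by omega] at this
      have c2 : Commute (orb a u 0) (orb a u (n + 1) * orb a u (n + 2)) := by
        have := e.mul_left c1.inv_left
        rw [orb_zero]
        simpa using this
      have c3 : Commute (orb a u 0) (orb a u (n + 1))⁻¹ := by
        rw [orb_zero]; exact (ih (n + 1) (by omega)).inv_right
      have := c3.mul_right c2
      rwa [inv_mul_cancel_left, orb_zero] at this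

end Cfsg.Agent.KSG55.Lin
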