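import Cfsg.Agent.KSG55.Lin.RootSys

set_option autoImplicit false

/-! A root system of type `A` maps faithfully to the special linear group. -/

namespace Cfsg.Agent.KSG55.Lin

open Matrix

variable {F : Type*} [Field F] {n : ℕ} {G : Type*} [Group G] {R : RootSys F n G}
  {φ : G →* SpecialLinearGroup (Fin n) F}

/-- `φ` sends root elements to transvections. -/
abbrev RootMap (R : RootSys F n G) (φ : G →* SpecialLinearGroup (Fin n) F) : Prop :=
  ∀ i j (h : i ≠ j) t, φ (R.x i j t) = SpecialLinearGroup.transvection h t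

/-- An entry of the image. -/
abbrev entry (φ : G →* SpecialLinearGroup (Fin n) F) (g : G) (k l : Fin n) : F :=
  (φ g : Matrix (Fin n) (Fin n) F) k l

theorem entry_mul (g g' : G) (k l : Fin n) : entry φ (g * g') k l = ∑ m, entry φ g k m * entry φ g' m l := by
  simp [entry, Matrix.mul_apply]

theorem entry_one (k l : Fin n) : entry φ 1 k l = if k = l then 1 else 0 := by
  simp [entry, Matrix.one_apply]

theorem entry_x (hφ : RootMap R φ) {i j : Fin n} (hij : i ≠ j) (t : F) (k l : Fin n) :
    entry φ (R.x i j t) k l = (if k = l then 1 else 0) + (if i = k ∧ j = l then t else 0) := by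
  simp [entry, hφ i j hij t, SpecialLinearGroup.transvection_coe, Matrix.one_apply, Matrix.single_apply]

theorem entry_mul_x (hφ : RootMap R φ) (g : G) {i j : Fin n} (hij : i ≠ j) (t : F) (k l : Fin n) :
    entry φ (g * R.x i j t) k l = entry φ g k l + (if j = l then entry φ g k i * t else 0) := by
  rw [entry_mul]
  simp only [entry_x hφ hij, mul_add, Finset.sum_add_distrib, mul_ite, mul_one, mul_zero, Finset.sum_ite_eq',
    Finset.mem_univ, if_true]
  congr 1
  by_cases h : j = l
  · simp [h]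
  · simp [h]

/-- The group of root elements inside a set of indices. -/
def rootGroup (R : RootSys F n G) (s : Finset (Fin n)) : Subgroup G :=
  Subgroup.closure {g | ∃ i ∈ s, ∃ j ∈ s, i ≠ j ∧ ∃ t, g = R.x i j t}

theorem mem_rootGroup {s : Finset (Fin n)} {i j : Fin n} (hi : i ∈ s) (hj : j ∈ s) (h : i ≠ j) (t : F) :
    R.x i j t ∈ rootGroup R s := Subgroup.subset_closure ⟨i, hi, j, hj, h, t, rfl⟩

theorem w_mem {s : Finset (Fin n)} {i j : Fin n} (hi : i ∈ s) (hj : j ∈ s) (h : i ≠ j) (d : F) :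
    R.w i j d ∈ rootGroup R s :=
  mul_mem (mul_mem (mem_rootGroup hi hj h _) (mem_rootGroup hj hi h.symm _)) (mem_rootGroup hi hj h _)

theorem rootGroup_fix (hφ : RootMap R φ) {s : Finset (Fin n)} {g : G} (hg : g ∈ rootGroup R s) :
    ∀ k l, (k ∉ s ∨ l ∉ s) → entry φ g k l = if k = l then 1 else 0 := by
  induction hg using Subgroup.closure_induction_right with
  | one => exact fun k l _ => entry_one k l
  | mul_right g hg z hz ih =>
    obtain ⟨i, hi, j, hj, hij, t, rfl⟩ := hz
    intro k l hkl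
    rw [entry_mul_x hφ _ hij, ih k l hkl]
    by_cases h : j = l
    · have hk : k ∉ s := by rcases hkl with h' | h'; exacts [h', absurd (h ▸ hj) h']
      rw [if_pos h, ih k i (Or.inl hk), if_neg (show k ≠ i from fun e => hk (e ▸ hi)), zero_mul, add_zero]
    · rw [if_neg h, add_zero]
  | mul_inv_cancel g hg z hz ih =>
    obtain ⟨i, hi, j, hj, hij, t, rfl⟩ := hz
    intro k l hkl
    rw [← R.neg hij, entry_mul_x hφ _ hij, ih k l hkl]
    by_cases h : j = l
    · have hk : k ∉ s := by rcases hkl with h' | h'; exacts [h', absurd (h ▸ hj) h']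
      rw [if_pos h, ih k i (Or.inl hk), if_neg (show k ≠ i from fun e => hk (e ▸ hi)), zero_mul, add_zero]
    · rw [if_neg h, add_zero]

/-- Base case: two indices. -/
theorem rootGroup_pair_inj (hφ : RootMap R φ) {i j : Fin n} (hij : i ≠ j) :
    ∀ g ∈ rootGroup R ({i, j} : Finset (Fin n)), φ g = 1 → g = 1 := by
  have hle : rootGroup R ({i, j} : Finset (Fin n)) ≤ (R.f hij).range := by
    rw [rootGroup, Subgroup.closure_le]
    rintro _ ⟨k, hk, l, hl, hkl, t, rfl⟩
    simp only [Finset.mem_insert, Finset.mem_singleton] at hk hl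
    rcases hk with rfl | rfl <;> rcases hl with rfl | rfl
    · exact absurd rfl hkl
    · exact ⟨_, R.f_U hij t⟩
    · exact ⟨_, R.f_L hij t⟩
    · exact absurd rfl hkl
  have key : ∀ M : SpecialLinearGroup (Fin 2) F, R.f hij M ∈ rootGroup R ({i, j} : Finset (Fin n)) ∧
      entry φ (R.f hij M) i i = M.1 0 0 ∧ entry φ (R.f hij M) i j = M.1 0 1 ∧
      entry φ (R.f hij M) j i = M.1 1 0 ∧ entry φ (R.f hij M) j j = M.1 1 1 := by
    intro M
    have hU : ∀ t, R.f hij (mU t) ∈ rootGroup R ({i, j} : Finset (Fin n)) := fun t => by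
      rw [R.f_U]; exact mem_rootGroup (by simp) (by simp) hij t
    have hL : ∀ t, R.f hij (mL t) ∈ rootGroup R ({i, j} : Finset (Fin n)) := fun t => by
      rw [R.f_L]; exact mem_rootGroup (by simp) (by simp) hij.symm t
    have hT : mT ∈ (rootGroup R ({i, j} : Finset (Fin n))).comap (R.f hij) := by
      rw [Subgroup.mem_comap, mT_eq, map_mul, map_mul]
      exact mul_mem (mul_mem (hU _) (hL _)) (hU _)
    have hmem : ∀ M, R.f hij M ∈ rootGroup R ({i, j} : Finset (Fin n)) := fun M => by
      have := eq_top_of_mem (H := (rootGroup R ({i, j} : Finset (Fin n))).comap (R.f hij)) hT hU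
      exact (Subgroup.eq_top_iff' _).mp this M
    have hgen : M ∈ Subgroup.closure (Set.range (mU : F → SpecialLinearGroup (Fin 2) F) ∪ Set.range mL) := by
      have hT' : (mT : SpecialLinearGroup (Fin 2) F) ∈ Subgroup.closure (Set.range (mU : F → SpecialLinearGroup (Fin 2) F) ∪ Set.range mL) := by
        rw [mT_eq]
        exact mul_mem (mul_mem (Subgroup.subset_closure (Or.inl ⟨_, rfl⟩)) (Subgroup.subset_closure (Or.inr ⟨_, rfl⟩)))
          (Subgroup.subset_closure (Or.inl ⟨_, rfl⟩))
      rw [eq_top_of_mem hT' fun x => Subgroup.subset_closure (Or.inl ⟨_, rfl⟩)]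
      trivial
    refine ⟨hmem M, ?_⟩
    induction hgen using Subgroup.closure_induction_right with
    | one => simp [entry_one, hij, hij.symm]
    | mul_right g hg z hz ih =>
      rcases hz with ⟨t, rfl⟩ | ⟨t, rfl⟩
      · simp only [map_mul, R.f_U, entry_mul_x hφ _ hij, ih.1, ih.2.1, ih.2.2.1, ih.2.2.2]
        simp [hij.symm, Matrix.mul_apply, Fin.sum_univ_two]
        constructor <;> ring
      · simp only [map_mul, R.f_L, entry_mul_x hφ _ hij.symm, ih.1, ih.2.1, ih.2.2.1, ih.2.2.2]
        simp [hij, Matrix.mul_apply, Fin.sum_univ_two]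
    | mul_inv_cancel g hg z hz ih =>
      rcases hz with ⟨t, rfl⟩ | ⟨t, rfl⟩
      · simp only [map_mul, map_inv, R.f_U, ← R.neg hij, entry_mul_x hφ _ hij, ih.1, ih.2.1, ih.2.2.1, ih.2.2.2]
        simp [hij.symm, Matrix.mul_apply, Fin.sum_univ_two, Matrix.adjugate_fin_two]
        constructor <;> ring
      · simp only [map_mul, map_inv, R.f_L, ← R.neg hij.symm, entry_mul_x hφ _ hij.symm, ih.1, ih.2.1, ih.2.2.1,
          ih.2.2.2]
        simp [hij, Matrix.mul_apply, Fin.sum_univ_two, Matrix.adjugate_fin_two]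
  intro g hg h1
  obtain ⟨M, rfl⟩ := hle hg
  obtain ⟨-, e1, e2, e3, e4⟩ := key M
  have hM : M = 1 := by
    apply Subtype.ext
    ext a b
    have he : ∀ k l, entry φ (R.f hij M) k l = if k = l then 1 else 0 := fun k l => by
      simp [entry, h1, Matrix.one_apply]
    rw [he] at e1 e2 e3 e4
    simp [hij, hij.symm] at e1 e2 e3 e4
    fin_cases a <;> fin_cases b <;> simp [← e1, ← e2, ← e3, ← e4]
  rw [hM, map_one]

/-- An abelian family of root elements, in a column. -/
def colGroup (R : RootSys F n G) (z : Fin n) (t : Finset (Fin n)) : Subgroup G :=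
  Subgroup.closure {g | ∃ j ∈ t, ∃ c, g = R.x j z c}

/-- An abelian family of root elements, in a row. -/
def rowGroup (R : RootSys F n G) (z : Fin n) (t : Finset (Fin n)) : Subgroup G :=
  Subgroup.closure {g | ∃ j ∈ t, ∃ c, g = R.x z j c}

theorem colGroup_insert {z j : Fin n} {t : Finset (Fin n)} (hz : z ∉ insert j t) {g : G}
    (hg : g ∈ colGroup R z (insert j t)) : ∃ g' ∈ colGroup R z t, ∃ c, g = g' * R.x j z c := by
  have hjz : j ≠ z := fun e => hz (e ▸ Finset.mem_insert_self j t)
  induction hg using Subgroup.closure_induction_right with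
  | one => exact ⟨1, one_mem _, 0, by rw [R.zero hjz, mul_one]⟩
  | mul_right g hg y hy ih =>
    obtain ⟨g', hg', c, rfl⟩ := ih
    obtain ⟨k, hk, b, rfl⟩ := hy
    rcases Finset.mem_insert.mp hk with rfl | hk'
    · exact ⟨g', hg', c + b, by rw [R.add _ _ hjz, mul_assoc]⟩
    · have hkz : k ≠ z := fun e => hz (e ▸ Finset.mem_insert_of_mem hk')
      exact ⟨g' * R.x k z b, mul_mem hg' (Subgroup.subset_closure ⟨k, hk', b, rfl⟩), c, by
        rw [mul_assoc, (R.comm0 j z k z hjz hkz hkz.symm hjz c b).eq, ← mul_assoc]⟩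
  | mul_inv_cancel g hg y hy ih =>
    obtain ⟨g', hg', c, rfl⟩ := ih
    obtain ⟨k, hk, b, rfl⟩ := hy
    rcases Finset.mem_insert.mp hk with rfl | hk'
    · exact ⟨g', hg', c + -b, by rw [R.add _ _ hjz, mul_assoc, R.neg hjz]⟩
    · have hkz : k ≠ z := fun e => hz (e ▸ Finset.mem_insert_of_mem hk')
      exact ⟨g' * R.x k z (-b), mul_mem hg' (Subgroup.subset_closure ⟨k, hk', -b, rfl⟩), c, by
        rw [← R.neg hkz, mul_assoc, (R.comm0 j z k z hjz hkz hkz.symm hjz c (-b)).eq, ← mul_assoc]⟩

theorem rowGroup_insert {z j : Fin n} {t : Finset (Fin n)} (hz : z ∉ insert j t) {g : G}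
    (hg : g ∈ rowGroup R z (insert j t)) : ∃ g' ∈ rowGroup R z t, ∃ c, g = g' * R.x z j c := by
  have hjz : z ≠ j := fun e => hz (e ▸ Finset.mem_insert_self j t)
  induction hg using Subgroup.closure_induction_right with
  | one => exact ⟨1, one_mem _, 0, by rw [R.zero hjz, mul_one]⟩
  | mul_right g hg y hy ih =>
    obtain ⟨g', hg', c, rfl⟩ := ih
    obtain ⟨k, hk, b, rfl⟩ := hy
    rcases Finset.mem_insert.mp hk with rfl | hk'
    · exact ⟨g', hg', c + b, by rw [R.add _ _ hjz, mul_assoc]⟩
    · have hkz : z ≠ k := fun e => hz (e ▸ Finset.mem_insert_of_mem hk')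
      exact ⟨g' * R.x z k b, mul_mem hg' (Subgroup.subset_closure ⟨k, hk', b, rfl⟩), c, by
        rw [mul_assoc, (R.comm0 z j z k hjz hkz hjz.symm hkz c b).eq, ← mul_assoc]⟩
  | mul_inv_cancel g hg y hy ih =>
    obtain ⟨g', hg', c, rfl⟩ := ih
    obtain ⟨k, hk, b, rfl⟩ := hy
    rcases Finset.mem_insert.mp hk with rfl | hk'
    · exact ⟨g', hg', c + -b, by rw [R.add _ _ hjz, mul_assoc, R.neg hjz]⟩
    · have hkz : z ≠ k := fun e => hz (e ▸ Finset.mem_insert_of_mem hk')
      exact ⟨g' * R.x z k (-b), mul_mem hg' (Subgroup.subset_closure ⟨k, hk', -b, rfl⟩), c, by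
        rw [← R.neg hkz, mul_assoc, (R.comm0 z j z k hjz hkz hjz.symm hkz c (-b)).eq, ← mul_assoc]⟩

theorem colGroup_spec (hφ : RootMap R φ) {z : Fin n} : ∀ {t : Finset (Fin n)}, z ∉ t → ∀ g ∈ colGroup R z t,
    (∀ k l, (l ≠ z ∨ k ∉ t) → entry φ g k l = if k = l then 1 else 0) ∧
      ((∀ k ∈ t, entry φ g k z = 0) → g = 1) := by
  intro t
  induction t using Finset.induction_on with
  | empty =>
    intro _ g hg
    have : g = 1 := by simpa [colGroup] using hg
    subst this
    exact ⟨fun k l _ => entry_one k l, fun _ => rfl⟩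
  | @insert j t hj ih =>
    intro hz g hg
    have hz' : z ∉ t := fun h => hz (Finset.mem_insert_of_mem h)
    have hjz : j ≠ z := fun e => hz (e ▸ Finset.mem_insert_self j t)
    obtain ⟨g', hg', c, rfl⟩ := colGroup_insert hz hg
    obtain ⟨h1, h2⟩ := ih hz' g' hg'
    refine ⟨fun k l hkl => ?_, fun h0 => ?_⟩
    · rw [entry_mul_x hφ _ hjz, h1 k l (hkl.imp id fun h h' => h (Finset.mem_insert_of_mem h'))]
      by_cases hl : z = l
      · have hk : k ∉ insert j t := hkl.resolve_left (fun h => h hl.symm)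
        rw [if_pos hl, h1 k j (Or.inl hjz), if_neg (show k ≠ j from fun e => hk (e ▸ Finset.mem_insert_self j t)),
          zero_mul, add_zero]
      · rw [if_neg hl, add_zero]
    · have hc : c = 0 := by
        have := h0 j (Finset.mem_insert_self j t)
        rw [entry_mul_x hφ _ hjz, if_pos rfl, h1 j z (Or.inr hj), if_neg hjz, h1 j j (Or.inl hjz), if_pos rfl,
          one_mul, zero_add] at this
        exact this
      rw [h2 fun k hk => ?_, hc, R.zero hjz, mul_one]
      have := h0 k (Finset.mem_insert_of_mem hk)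
      rwa [entry_mul_x hφ _ hjz, hc, mul_zero, ite_self, add_zero] at this

theorem rowGroup_spec (hφ : RootMap R φ) {z : Fin n} : ∀ {t : Finset (Fin n)}, z ∉ t → ∀ g ∈ rowGroup R z t,
    (∀ k l, (k ≠ z ∨ l ∉ t) → entry φ g k l = if k = l then 1 else 0) ∧
      ((∀ l ∈ t, entry φ g z l = 0) → g = 1) := by
  intro t
  induction t using Finset.induction_on with
  | empty =>
    intro _ g hg
    have : g = 1 := by simpa [rowGroup] using hg
    subst this
    exact ⟨fun k l _ => entry_one k l, fun _ => rfl⟩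
  | @insert j t hj ih =>
    intro hz g hg
    have hz' : z ∉ t := fun h => hz (Finset.mem_insert_of_mem h)
    have hjz : z ≠ j := fun e => hz (e ▸ Finset.mem_insert_self j t)
    obtain ⟨g', hg', c, rfl⟩ := rowGroup_insert hz hg
    obtain ⟨h1, h2⟩ := ih hz' g' hg'
    refine ⟨fun k l hkl => ?_, fun h0 => ?_⟩
    · rw [entry_mul_x hφ _ hjz, h1 k l (hkl.imp id fun h h' => h (Finset.mem_insert_of_mem h'))]
      by_cases hl : j = l
      · have hk : k ≠ z := hkl.resolve_right (fun h => h (hl ▸ Finset.mem_insert_self j t))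
        rw [if_pos hl, h1 k z (Or.inl hk), if_neg hk, zero_mul, add_zero]
      · rw [if_neg hl, add_zero]
    · have hc : c = 0 := by
        have := h0 j (Finset.mem_insert_self j t)
        rw [entry_mul_x hφ _ hjz, if_pos rfl, h1 z j (Or.inr hj), if_neg hjz, h1 z z (Or.inr hz'), if_pos rfl,
          one_mul, zero_add] at this
        exact this
      rw [h2 fun k hk => ?_, hc, R.zero hjz, mul_one]
      have := h0 k (Finset.mem_insert_of_mem hk)
      rwa [entry_mul_x hφ _ hjz, hc, mul_zero, ite_self, add_zero] at this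

/-- One more index. -/
theorem rootGroup_step (hφ : RootMap R φ) {s : Finset (Fin n)} {z e : Fin n} (hz : z ∉ s) (he : e ∈ s)
    (hs : ∀ k ∈ s, ∃ l ∈ s, l ≠ k) (ih : ∀ g ∈ rootGroup R s, φ g = 1 → g = 1) :
    ∀ g ∈ rootGroup R (insert z s), φ g = 1 → g = 1 := by
  set A := rootGroup R s
  set C := colGroup R z s
  set W := rowGroup R z s
  have hne : ∀ {k}, k ∈ s → k ≠ z := fun hk e => hz (e ▸ hk)
  have hze : z ≠ e := (hne he).symm
  let D : Fˣ → G := fun d => R.h hze d
  let O : Set G := {g | ∃ a ∈ A, ∃ y ∈ C, ∃ d, ∃ r ∈ W, g = a * y * D d * r}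
  -- conjugation by elements of the torus
  have scaleA : ∀ {i : Fin n} (hzi : z ≠ i) (d : Fˣ), ∀ a ∈ A, R.h hzi d * a * (R.h hzi d)⁻¹ ∈ A := by
    intro i hzi d
    have : A ≤ A.comap (MulAut.conj (R.h hzi d)).toMonoidHom := by
      refine (Subgroup.closure_le _).mpr ?_
      rintro _ ⟨k, hk, l, hl, hkl, t, rfl⟩
      obtain ⟨c, hc⟩ := R.h_scale hzi d hkl
      show R.h hzi d * R.x k l t * (R.h hzi d)⁻¹ ∈ A
      rw [hc]; exact mem_rootGroup hk hl hkl _
    exact fun a ha => this ha
  have scaleC : ∀ {i : Fin n} (hzi : z ≠ i) (d : Fˣ), ∀ a ∈ C, R.h hzi d * a * (R.h hzi d)⁻¹ ∈ C := by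
    intro i hzi d
    have : C ≤ C.comap (MulAut.conj (R.h hzi d)).toMonoidHom := by
      refine (Subgroup.closure_le _).mpr ?_
      rintro _ ⟨k, hk, t, rfl⟩
      obtain ⟨c, hc⟩ := R.h_scale hzi d (hne hk)
      show R.h hzi d * R.x k z t * (R.h hzi d)⁻¹ ∈ C
      rw [hc]; exact Subgroup.subset_closure ⟨k, hk, _, rfl⟩
    exact fun a ha => this ha
  have h_inv : ∀ {i : Fin n} (hzi : z ≠ i) (d : Fˣ), (R.h hzi d)⁻¹ = R.h hzi d⁻¹ := fun hzi d => by
    rw [RootSys.h, RootSys.h, ← map_inv, mH_inv]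
  have scaleW : ∀ {i : Fin n} (hzi : z ≠ i) (d : Fˣ), ∀ a ∈ W, R.h hzi d * a * (R.h hzi d)⁻¹ ∈ W := by
    intro i hzi d
    have : W ≤ W.comap (MulAut.conj (R.h hzi d)).toMonoidHom := by
      refine (Subgroup.closure_le _).mpr ?_
      rintro _ ⟨k, hk, t, rfl⟩
      obtain ⟨c, hc⟩ := R.h_scale hzi d (hne hk).symm
      show R.h hzi d * R.x z k t * (R.h hzi d)⁻¹ ∈ W
      rw [hc]; exact Subgroup.subset_closure ⟨k, hk, _, rfl⟩
    exact fun a ha => this ha
  have AC : ∀ a ∈ A, ∀ y ∈ C, a * y * a⁻¹ ∈ C := by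
    intro a ha
    induction ha using Subgroup.closure_induction'' with
    | one => simpa using fun y hy => hy
    | mem g hg =>
      obtain ⟨i, hi, j, hj, hij, t, rfl⟩ := hg
      have : C ≤ C.comap (MulAut.conj (R.x i j t)).toMonoidHom := by
        refine (Subgroup.closure_le _).mpr ?_
        rintro _ ⟨k, hk, c, rfl⟩
        show R.x i j t * R.x k z c * (R.x i j t)⁻¹ ∈ C
        by_cases hjk : j = k
        · subst hjk
          rw [R.row1 hij (hne hj) (hne hi)]
          exact mul_mem (Subgroup.subset_closure ⟨i, hi, _, rfl⟩) (Subgroup.subset_closure ⟨j, hk, _, rfl⟩)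
        · rw [(R.comm0 i j k z hij (hne hk) hjk (hne hi) t c).eq, mul_inv_cancel_right]
          exact Subgroup.subset_closure ⟨k, hk, _, rfl⟩
      exact fun y hy => this hy
    | inv_mem g hg =>
      obtain ⟨i, hi, j, hj, hij, t, rfl⟩ := hg
      have : C ≤ C.comap (MulAut.conj (R.x i j (-t))).toMonoidHom := by
        refine (Subgroup.closure_le _).mpr ?_
        rintro _ ⟨k, hk, c, rfl⟩
        show R.x i j (-t) * R.x k z c * (R.x i j (-t))⁻¹ ∈ C
        by_cases hjk : j = k
        · subst hjk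
          rw [R.row1 hij (hne hj) (hne hi)]
          exact mul_mem (Subgroup.subset_closure ⟨i, hi, _, rfl⟩) (Subgroup.subset_closure ⟨j, hk, _, rfl⟩)
        · rw [(R.comm0 i j k z hij (hne hk) hjk (hne hi) (-t) c).eq, mul_inv_cancel_right]
          exact Subgroup.subset_closure ⟨k, hk, _, rfl⟩
      intro y hy
      rw [← R.neg hij]
      exact this hy
    | mul a b _ _ ha hb =>
      intro y hy
      rw [show a * b * y * (a * b)⁻¹ = a * (b * y * b⁻¹) * a⁻¹ by group]
      exact ha _ (hb y hy)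
  have AW : ∀ a ∈ A, ∀ r ∈ W, a⁻¹ * r * a ∈ W := by
    intro a ha
    induction ha using Subgroup.closure_induction'' with
    | one => simpa using fun y hy => hy
    | mem g hg =>
      obtain ⟨i, hi, j, hj, hij, t, rfl⟩ := hg
      have : W ≤ W.comap (MulAut.conj (R.x i j (-t))).toMonoidHom := by
        refine (Subgroup.closure_le _).mpr ?_
        rintro _ ⟨k, hk, c, rfl⟩
        show R.x i j (-t) * R.x z k c * (R.x i j (-t))⁻¹ ∈ W
        by_cases hik : i = k
        · subst hik
          rw [R.col1 hij (hne hi).symm (hne hj).symm]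
          exact mul_mem (Subgroup.subset_closure ⟨j, hj, _, rfl⟩) (Subgroup.subset_closure ⟨i, hk, _, rfl⟩)
        · rw [(R.comm0 i j z k hij (hne hk).symm (hne hj) hik (-t) c).eq, mul_inv_cancel_right]
          exact Subgroup.subset_closure ⟨k, hk, _, rfl⟩
      intro r hr
      have := this hr
      simp only [Subgroup.mem_comap, MulEquiv.coe_toMonoidHom, MulAut.conj_apply, R.neg hij, inv_inv] at this
      exact this
    | inv_mem g hg =>
      obtain ⟨i, hi, j, hj, hij, t, rfl⟩ := hg
      have : W ≤ W.comap (MulAut.conj (R.x i j t)).toMonoidHom := by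
        refine (Subgroup.closure_le _).mpr ?_
        rintro _ ⟨k, hk, c, rfl⟩
        show R.x i j t * R.x z k c * (R.x i j t)⁻¹ ∈ W
        by_cases hik : i = k
        · subst hik
          rw [R.col1 hij (hne hi).symm (hne hj).symm]
          exact mul_mem (Subgroup.subset_closure ⟨j, hj, _, rfl⟩) (Subgroup.subset_closure ⟨i, hk, _, rfl⟩)
        · rw [(R.comm0 i j z k hij (hne hk).symm (hne hj) hik t c).eq, mul_inv_cancel_right]
          exact Subgroup.subset_closure ⟨k, hk, _, rfl⟩
      intro r hr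
      simpa using this hr
    | mul a b _ _ ha hb =>
      intro y hy
      rw [show (a * b)⁻¹ * y * (a * b) = b⁻¹ * (a⁻¹ * y * a) * b by group]
      exact hb _ (ha y hy)
  -- stability of the cell
  have O_A : ∀ g ∈ O, ∀ b ∈ A, g * b ∈ O := by
    rintro _ ⟨a, ha, y, hy, d, r, hr, rfl⟩ b hb
    set b' := D d * b * (D d)⁻¹ with hb'
    have hb'A : b' ∈ A := scaleA hze d b hb
    refine ⟨a * b', mul_mem ha hb'A, b'⁻¹ * y * b', by simpa using AC b'⁻¹ (inv_mem hb'A) y hy, d, b⁻¹ * r * b,
      AW b hb r hr, ?_⟩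
    rw [hb']; group
  have O_W : ∀ g ∈ O, ∀ b ∈ W, g * b ∈ O := by
    rintro _ ⟨a, ha, y, hy, d, r, hr, rfl⟩ b hb
    exact ⟨a, ha, y, hy, d, r * b, mul_mem hr hb, by group⟩
  have one_O : (1 : G) ∈ O := ⟨1, one_mem _, 1, one_mem _, 1, 1, one_mem _, by
    show (1 : G) = 1 * 1 * R.h hze 1 * 1
    rw [RootSys.h, show mH (1 : Fˣ) = (1 : SpecialLinearGroup (Fin 2) F) from mHHom.map_one, map_one]; group⟩
  have AC_O : ∀ a ∈ A, ∀ y ∈ C, a * y ∈ O := fun a ha y hy => ⟨a, ha, y, hy, 1, 1, one_mem _, by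
    show a * y = a * y * R.h hze 1 * 1
    rw [RootSys.h, show mH (1 : Fˣ) = (1 : SpecialLinearGroup (Fin 2) F) from mHHom.map_one, map_one]; group⟩
  -- the `z` row
  have rowA : ∀ a ∈ A, ∀ g, ∀ l, entry φ (a * g) z l = entry φ g z l := fun a ha g l => by
    rw [entry_mul, Finset.sum_eq_single z]
    · rw [rootGroup_fix hφ ha z z (Or.inl hz), if_pos rfl, one_mul]
    · intro m _ hm; rw [rootGroup_fix hφ ha z m (Or.inl hz), if_neg (Ne.symm hm), zero_mul]
    · simp
  have rowC : ∀ y ∈ C, ∀ g, ∀ l, entry φ (y * g) z l = entry φ g z l := fun y hy g l => by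
    rw [entry_mul, Finset.sum_eq_single z]
    · rw [(colGroup_spec hφ hz y hy).1 z z (Or.inr hz), if_pos rfl, one_mul]
    · intro m _ hm; rw [(colGroup_spec hφ hz y hy).1 z m (Or.inl hm), if_neg (Ne.symm hm), zero_mul]
    · simp
  have hD : ∀ (d : Fˣ) (g : G) (l : Fin n), entry φ (D d * g) z l = (d : F) * entry φ g z l := by
    intro d g l
    have e0 : ∀ m, entry φ (D d) z m = if m = z then (d : F) else 0 := fun m => by
      show entry φ (R.h hze d) z m = _
      have hw : ∀ f : F, f ≠ 0 → ∀ m, entry φ (R.w z e f) z m = if m = e then f else 0 := fun f hf m => by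
        show entry φ (R.x z e f * R.x e z (-f⁻¹) * R.x z e f) z m = _
        simp only [entry_mul_x hφ _ hze, entry_mul_x hφ _ hze.symm, entry_x hφ hze]
        by_cases h1 : m = e
        · subst h1; simp [hze, hze.symm, hf]
        · by_cases h2 : m = z
          · subst h2; simp [hze, hze.symm, hf]
          · simp [hze, hze.symm, h1, Ne.symm h1, Ne.symm h2]
      have hw2 : ∀ f : F, f ≠ 0 → ∀ m, entry φ (R.w z e f) e m = if m = z then -f⁻¹ else 0 := fun f hf m => by
        show entry φ (R.x z e f * R.x e z (-f⁻¹) * R.x z e f) e m = _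
        simp only [entry_mul_x hφ _ hze, entry_mul_x hφ _ hze.symm, entry_x hφ hze]
        by_cases h1 : m = e
        · subst h1; simp [hze, hze.symm, hf]
        · by_cases h2 : m = z
          · subst h2; simp [hze, hze.symm]
          · simp [hze, hze.symm, h1, h2, Ne.symm h1, Ne.symm h2]
      rw [R.h_eq, entry_mul, Finset.sum_eq_single e]
      · rw [hw _ d.ne_zero, hw2 _ (neg_ne_zero.mpr one_ne_zero), if_pos rfl]
        by_cases h : m = z <;> simp [h]
      · intro m' _ hm'; rw [hw _ d.ne_zero, if_neg hm', zero_mul]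
      · simp
    rw [entry_mul, Finset.sum_eq_single z]
    · rw [e0, if_pos rfl]
    · intro m _ hm; rw [e0, if_neg hm, zero_mul]
    · simp
  have rowO : ∀ a ∈ A, ∀ y ∈ C, ∀ d, ∀ (g : G) (l : Fin n),
      entry φ (a * y * D d * g) z l = (d : F) * entry φ g z l := fun a ha y hy d g l => by
    rw [mul_assoc, mul_assoc, rowA a ha, rowC y hy, hD]
  -- passing one column element
  have L1 : ∀ g ∈ O, ∀ j ∈ s, ∀ c, entry φ (g * R.x j z c) z z ≠ 0 → g * R.x j z c ∈ O := by
    rintro _ ⟨a, ha, y, hy, d, r, hr, rfl⟩ j hj c hne0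
    have hjz : j ≠ z := hne hj
    rw [show s = insert j (s.erase j) from (Finset.insert_erase hj).symm] at hz
    have hz' : z ∉ s.erase j := fun h => hz (Finset.mem_insert_of_mem h)
    have hrI : r ∈ rowGroup R z (insert j (s.erase j)) := by rwa [Finset.insert_erase hj]
    obtain ⟨r', hr', b, rfl⟩ := rowGroup_insert hz hrI
    have hu : 1 + b * c ≠ 0 := by
      intro h0; apply hne0
      rw [mul_assoc, rowO a ha y hy, mul_assoc, entry_mul, Finset.sum_eq_single z]
      · rw [(rowGroup_spec hφ hz' r' hr').1 z z (Or.inr hz'), if_pos rfl, one_mul, entry_mul_x hφ _ hjz,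
          if_pos rfl, entry_x hφ hjz.symm, entry_x hφ hjz.symm]
        simp [hjz, hjz.symm, h0]
      · intro m _ hm
        rw [entry_mul_x hφ _ hjz, if_pos rfl, entry_x hφ hjz.symm, entry_x hφ hjz.symm]
        by_cases hmj : m = j
        · subst hmj
          rw [(rowGroup_spec hφ hz' r' hr').1 z m (Or.inr (Finset.notMem_erase _ _)), if_neg hjz.symm, zero_mul]
        · simp [hm, Ne.symm hm, hmj, Ne.symm hmj]
      · simp
    -- move the column element to the left of the row
    have key : ∀ c', ∀ r ∈ rowGroup R z (s.erase j), ∃ b ∈ rowGroup R j (s.erase j), ∃ r'' ∈ rowGroup R z (s.erase j),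
        r * R.x j z c' = R.x j z c' * (b * r'') ∧ b ∈ A := by
      intro c' r hr
      have hcomm : ∀ b ∈ rowGroup R j (s.erase j), ∀ r ∈ rowGroup R z (s.erase j), Commute b r := by
        intro b hb r hr
        have : rowGroup R j (s.erase j) ≤ Subgroup.centralizer (rowGroup R z (s.erase j) : Set G) := by
          refine (Subgroup.closure_le _).mpr ?_
          rintro _ ⟨k, hk, c, rfl⟩
          refine Subgroup.mem_centralizer_iff.mpr fun w hw => ?_
          have : rowGroup R z (s.erase j) ≤ Subgroup.centralizer {R.x j k c} := by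
            refine (Subgroup.closure_le _).mpr ?_
            rintro _ ⟨l, hl, c', rfl⟩
            exact Subgroup.mem_centralizer_singleton_iff.mpr (R.comm0 z l j k
              (hne (Finset.mem_of_mem_erase hl)).symm (Finset.ne_of_mem_erase hk).symm (Finset.ne_of_mem_erase hl)
              (hne (Finset.mem_of_mem_erase hk)).symm c' c).eq
          exact Subgroup.mem_centralizer_singleton_iff.mp (this hw)
        exact (Subgroup.mem_centralizer_iff.mp (this hb) r hr).symm
      have hbA : rowGroup R j (s.erase j) ≤ A := by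
        refine (Subgroup.closure_le _).mpr ?_
        rintro _ ⟨k, hk, c, rfl⟩
        exact mem_rootGroup hj (Finset.mem_of_mem_erase hk) (Finset.ne_of_mem_erase hk).symm c
      induction hr using Subgroup.closure_induction'' with
      | one => exact ⟨1, one_mem _, 1, one_mem _, by group, one_mem _⟩
      | mem w hw =>
        obtain ⟨k, hk, t, rfl⟩ := hw
        have hk' := Finset.ne_of_mem_erase hk
        have hkz := (hne (Finset.mem_of_mem_erase hk)).symm
        refine ⟨R.x j k (-c' * t), Subgroup.subset_closure ⟨k, hk, _, rfl⟩, R.x z k t,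
          Subgroup.subset_closure ⟨k, hk, _, rfl⟩, ?_, hbA (Subgroup.subset_closure ⟨k, hk, _, rfl⟩)⟩
        rw [← R.row1 hjz hkz hk'.symm (-c') t, R.neg hjz]
        group
      | inv_mem w hw =>
        obtain ⟨k, hk, t, rfl⟩ := hw
        have hk' := Finset.ne_of_mem_erase hk
        have hkz := (hne (Finset.mem_of_mem_erase hk)).symm
        refine ⟨R.x j k (-c' * -t), Subgroup.subset_closure ⟨k, hk, _, rfl⟩, R.x z k (-t),
          Subgroup.subset_closure ⟨k, hk, _, rfl⟩, ?_, hbA (Subgroup.subset_closure ⟨k, hk, _, rfl⟩)⟩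
        rw [← R.row1 hjz hkz hk'.symm (-c') (-t), R.neg hjz, R.neg hkz]
        group
      | mul r₁ r₂ _ _ h₁ h₂ =>
        obtain ⟨b₁, hb₁, w₁, hw₁, e₁, -⟩ := h₁
        obtain ⟨b₂, hb₂, w₂, hw₂, e₂, -⟩ := h₂
        refine ⟨b₁ * b₂, mul_mem hb₁ hb₂, w₁ * w₂, mul_mem hw₁ hw₂, ?_, hbA (mul_mem hb₁ hb₂)⟩
        calc r₁ * r₂ * R.x j z c' = (r₁ * R.x j z c') * ((R.x j z c')⁻¹ * (r₂ * R.x j z c')) := by group
          _ = R.x j z c' * (b₁ * (w₁ * b₂) * w₂) := by rw [e₁, e₂]; group
          _ = R.x j z c' * (b₁ * (b₂ * w₁) * w₂) := by rw [(hcomm b₂ hb₂ w₁ hw₁).eq]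
          _ = _ := by group
    obtain ⟨b', hb', r'', hr'', e2, hb'A⟩ := key (c / (1 + b * c)) r' hr'
    set u := Units.mk0 _ hu
    have ident : R.x z j b * R.x j z c = R.x j z (c / (1 + b * c)) * R.h hjz.symm u * R.x z j (b / (1 + b * c)) := by
      rw [RootSys.h, ← R.f_U hjz.symm, ← R.f_L hjz.symm, ← map_mul, mU_mul_mL b c hu, map_mul, map_mul, R.f_U, R.f_L]
    have hsub : rowGroup R z (s.erase j) ≤ W :=
      Subgroup.closure_mono fun _ ⟨k, hk, c, e⟩ => ⟨k, Finset.mem_of_mem_erase hk, c, e⟩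
    set x' := R.x j z (c / (1 + b * c))
    set hh := R.h hjz.symm u
    -- the transfer element
    obtain ⟨zz, hzz, etr⟩ : ∃ zz ∈ A, hh = zz * D u := by
      by_cases hej : e = j
      · subst hej; exact ⟨1, one_mem _, (one_mul _).symm⟩
      · refine ⟨R.w e j 1 * (D u * (R.w e j 1)⁻¹ * (D u)⁻¹),
          mul_mem (w_mem he hj hej _) (scaleA hze u _ (inv_mem (w_mem he hj hej _))), ?_⟩
        show hh = _
        rw [show R.w e j 1 * (D u * (R.w e j 1)⁻¹ * (D u)⁻¹) * D u = R.w e j 1 * D u * (R.w e j 1)⁻¹ by group]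
        exact (R.h_transfer hze hej hjz.symm u).symm
    have hxy : D d * x' * (D d)⁻¹ ∈ C := scaleC hze d _ (Subgroup.subset_closure ⟨j, hj, _, rfl⟩)
    set a' := D d * b' * (D d)⁻¹ * (D d * zz * (D d)⁻¹) with ha'
    have ha'A : a' ∈ A := mul_mem (scaleA hze d _ hb'A) (scaleA hze d _ hzz)
    have hrr : hh⁻¹ * r'' * hh ∈ W := by
      show (R.h hjz.symm u)⁻¹ * r'' * R.h hjz.symm u ∈ W
      have := scaleW hjz.symm u⁻¹ r'' (hsub hr'')
      rwa [← h_inv hjz.symm, inv_inv] at this
    refine ⟨a * a', mul_mem ha ha'A, a'⁻¹ * (y * (D d * x' * (D d)⁻¹)) * a',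
      by simpa using AC a'⁻¹ (inv_mem ha'A) _ (mul_mem hy hxy), d * u, hh⁻¹ * r'' * hh * R.x z j (b / (1 + b * c)),
      mul_mem hrr (Subgroup.subset_closure ⟨j, hj, _, rfl⟩), ?_⟩
    have hDmul : D (d * u) = D d * D u := by
      show R.h hze (d * u) = R.h hze d * R.h hze u
      rw [RootSys.h, RootSys.h, RootSys.h, ← map_mul]
      congr 1
      exact mHHom.map_mul d u
    calc a * y * D d * (r' * R.x z j b) * R.x j z c = a * y * D d * r' * (R.x z j b * R.x j z c) := by group
      _ = a * y * D d * (r' * x') * hh * R.x z j (b / (1 + b * c)) := by rw [ident]; group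
      _ = a * y * (D d * x' * (D d)⁻¹) * (D d * b' * (D d)⁻¹) * D d * hh * (hh⁻¹ * r'' * hh) *
            R.x z j (b / (1 + b * c)) := by rw [e2]; group
      _ = _ := by rw [hDmul, ha', etr]; group
  -- passing any column element
  have L : ∀ t ⊆ s, ∀ y ∈ colGroup R z t, ∀ g ∈ O, entry φ (g * y) z z ≠ 0 → g * y ∈ O := by
    intro t
    induction t using Finset.induction_on with
    | empty =>
      intro _ y hy g hg _
      have : y = 1 := by simpa [colGroup] using hy
      simpa [this] using hg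
    | @insert j t hjt iht =>
      intro hsub y hy g hg hne0
      have hz' : z ∉ insert j t := fun h => hz (hsub h)
      have hj := hsub (Finset.mem_insert_self j t)
      obtain ⟨y', hy', c, rfl⟩ := colGroup_insert hz' hy
      by_cases hc : c = 0
      · rw [hc, R.zero (hne hj), mul_one] at hne0 ⊢
        exact iht (fun k hk => hsub (Finset.mem_insert_of_mem hk)) y' hy' g hg hne0
      have conj : ∀ w ∈ colGroup R z t, ∃ a ∈ A, a * R.x j z c * a⁻¹ = w * R.x j z c ∧
          ∀ v ∈ colGroup R z t, Commute a v := by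
        intro w hw
        have gen : ∀ k ∈ t, ∀ b : F, ∃ a ∈ A, a * R.x j z c * a⁻¹ = R.x k z b * R.x j z c ∧
            ∀ v ∈ colGroup R z t, Commute a v := by
          intro k hk b
          have hkj : k ≠ j := fun e => hjt (e ▸ hk)
          have hks := hsub (Finset.mem_insert_of_mem hk)
          refine ⟨R.x k j (b / c), mem_rootGroup hks hj hkj _, ?_, fun v hv => ?_⟩
          · rw [R.row1 hkj (hne hj) (hne hks), div_mul_cancel₀ b hc]
          · have : colGroup R z t ≤ Subgroup.centralizer {R.x k j (b / c)} := by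
              refine (Subgroup.closure_le _).mpr ?_
              rintro _ ⟨l, hl, b', rfl⟩
              exact Subgroup.mem_centralizer_singleton_iff.mpr (R.comm0 k j l z hkj
                (hne (hsub (Finset.mem_insert_of_mem hl))) (fun e => hjt (e ▸ hl)) (hne hks) _ _).eq.symm
            exact (Subgroup.mem_centralizer_singleton_iff.mp (this hv)).symm
        induction hw using Subgroup.closure_induction'' with
        | one => exact ⟨1, one_mem _, by group, fun v _ => Commute.one_left v⟩
        | mem w hw => obtain ⟨k, hk, b, rfl⟩ := hw; exact gen k hk b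
        | inv_mem w hw =>
          obtain ⟨k, hk, b, rfl⟩ := hw
          rw [← R.neg (hne (hsub (Finset.mem_insert_of_mem hk)))]
          exact gen k hk (-b)
        | mul w₁ w₂ h₁ h₂ ih₁ ih₂ =>
          obtain ⟨a₁, ha₁, e₁, c₁⟩ := ih₁
          obtain ⟨a₂, ha₂, e₂, c₂⟩ := ih₂
          refine ⟨a₂ * a₁, mul_mem ha₂ ha₁, ?_, fun v hv => (c₂ v hv).mul_left (c₁ v hv)⟩
          calc a₂ * a₁ * R.x j z c * (a₂ * a₁)⁻¹ = a₂ * (a₁ * R.x j z c * a₁⁻¹) * a₂⁻¹ := by group
            _ = (a₂ * w₁) * R.x j z c * a₂⁻¹ := by rw [e₁]; group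
            _ = (w₁ * a₂) * R.x j z c * a₂⁻¹ := by rw [(c₂ w₁ h₁).eq]
            _ = w₁ * (a₂ * R.x j z c * a₂⁻¹) := by group
            _ = _ := by rw [e₂]; group
      obtain ⟨a, ha, e, -⟩ := conj y' hy'
      rw [← e] at hne0 ⊢
      rw [show g * (a * R.x j z c * a⁻¹) = g * a * R.x j z c * a⁻¹ by group] at hne0 ⊢
      refine O_A _ (L1 _ (O_A g hg a ha) j hj c ?_) _ (inv_mem ha)
      intro h0
      apply hne0
      rw [entry_mul, Finset.sum_eq_single z]
      · rw [h0, zero_mul]
      · intro m _ hm; rw [rootGroup_fix hφ (inv_mem ha) m z (Or.inr hz), if_neg hm, mul_zero]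
      · simp
  -- every element is regular
  have main : ∀ g ∈ rootGroup R (insert z s), (∀ l, l ∉ insert z s → entry φ g z l = 0) ∧
      ∀ y ∈ C, entry φ (g * y) z z ≠ 0 → g * y ∈ O := by
    have supp : ∀ g ∈ rootGroup R (insert z s), ∀ l, l ∉ insert z s → entry φ g z l = 0 := fun g hg l hl => by
      rw [rootGroup_fix hφ hg z l (Or.inr hl), if_neg (fun e => hl (by rw [← e]; exact Finset.mem_insert_self z s))]
    intro g hg
    refine ⟨supp g hg, ?_⟩
    have stepA : ∀ g : G, (∀ y ∈ C, entry φ (g * y) z z ≠ 0 → g * y ∈ O) → ∀ a ∈ A,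
        ∀ y ∈ C, entry φ (g * a * y) z z ≠ 0 → g * a * y ∈ O := by
      intro g ih a ha y hy hne0
      have e : g * a * y = g * (a * y * a⁻¹) * a := by group
      rw [e] at hne0 ⊢
      refine O_A _ (ih _ (AC a ha y hy) fun h0 => hne0 ?_) a ha
      rw [entry_mul, Finset.sum_eq_single z]
      · rw [h0, zero_mul]
      · intro m _ hm; rw [rootGroup_fix hφ ha m z (Or.inr hz), if_neg hm, mul_zero]
      · simp
    have stepW : ∀ g : G, (∀ l, l ∉ insert z s → entry φ g z l = 0) →
        (∀ y ∈ C, entry φ (g * y) z z ≠ 0 → g * y ∈ O) → ∀ k ∈ s, ∀ b,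
        ∀ y ∈ C, entry φ (g * R.x z k b * y) z z ≠ 0 → g * R.x z k b * y ∈ O := by
      -- the safe case
      have safe : ∀ g : G, (∀ y ∈ C, entry φ (g * y) z z ≠ 0 → g * y ∈ O) → ∀ k ∈ s, ∀ b,
          (entry φ g z z ≠ 0 ∨ ∃ j ∈ s, j ≠ k ∧ entry φ g z j ≠ 0) →
          ∀ y ∈ C, entry φ (g * R.x z k b * y) z z ≠ 0 → g * R.x z k b * y ∈ O := by
        intro g ih k hk b hcase y hy hne0
        rcases hcase with h0 | ⟨j, hj, hjk, h0⟩
        · have h1 : g ∈ O := by simpa using ih 1 (one_mem _) (by simpa using h0)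
          exact L s le_rfl y hy _ (O_W g h1 _ (Subgroup.subset_closure ⟨k, hk, b, rfl⟩)) hne0
        · by_cases hzz : entry φ g z z = 0
          · set y' := R.x j z 1 with hy'e
            have hy' : y' ∈ C := Subgroup.subset_closure ⟨j, hj, 1, rfl⟩
            have hg' : g * y' ∈ O := ih y' hy' (by
              rw [entry_mul_x hφ _ (hne hj), if_pos rfl, hzz, zero_add, mul_one]; exact h0)
            have e1 := R.comm j z k (hne hj) (hne hk).symm hjk 1 b
            rw [one_mul, ← hy'e] at e1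
            have e2 : R.x z k b * y' = R.x j k (-b) * y' * R.x z k b := by
              rw [R.neg hjk, mul_assoc, e1]; group
            have e3 : g * R.x z k b * y' = g * y' * R.x j k (-b) * R.x z k b := by
              rw [mul_assoc g, e2, (R.comm0 j k j z hjk (hne hj) (Ne.symm hjk) (hne hj) (-b) 1).eq]
              simp only [hy'e]
              group
            have h2 : g * R.x z k b * y' ∈ O := by
              rw [e3]
              exact O_W _ (O_A _ hg' _ (mem_rootGroup hj hk hjk _)) _ (Subgroup.subset_closure ⟨k, hk, b, rfl⟩)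
            have e4 : g * R.x z k b * y = g * R.x z k b * y' * (y'⁻¹ * y) := by group
            rw [e4] at hne0 ⊢
            exact L s le_rfl _ (mul_mem (inv_mem hy') hy) _ h2 hne0
          · have h1 : g ∈ O := by simpa using ih 1 (one_mem _) (by simpa using hzz)
            exact L s le_rfl y hy _ (O_W g h1 _ (Subgroup.subset_closure ⟨k, hk, b, rfl⟩)) hne0
      intro g hsupp ih k hk b y hy hne0
      by_cases hcase : entry φ g z z ≠ 0 ∨ ∃ j ∈ s, j ≠ k ∧ entry φ g z j ≠ 0
      · exact safe g ih k hk b hcase y hy hne0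
      push Not at hcase
      obtain ⟨hzz, hall⟩ := hcase
      -- the row is a multiple of the `k`th unit vector
      have hk0 : entry φ g z k ≠ 0 := by
        intro h0
        have hrow : ∀ m, entry φ g z m = 0 := fun m => by
          by_cases hm : m ∈ insert z s
          · rcases Finset.mem_insert.mp hm with rfl | hm
            · exact hzz
            · by_cases hmk : m = k
              · subst hmk; exact h0
              · exact hall m hm hmk
          · exact hsupp m hm
        have : entry φ (g * g⁻¹) z z = 0 := by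
          rw [entry_mul]; exact Finset.sum_eq_zero fun m _ => by rw [hrow, zero_mul]
        rw [mul_inv_cancel, entry_one, if_pos rfl] at this
        exact one_ne_zero this
      obtain ⟨l, hl, hlk⟩ := hs k hk
      have hlz := (hne hl).symm
      have hl0 : entry φ g z l = 0 := hall l hl hlk
      have e : R.x z k b = R.x z l b * R.x l k 1 * R.x z l (-b) * R.x l k (-1) := by
        rw [R.comm z l k hlz hlk (hne hk).symm, mul_one, R.neg hlz, R.neg hlk]; group
      set g₁ := g * R.x z l b with hg₁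
      have ih₁ : ∀ y ∈ C, entry φ (g₁ * y) z z ≠ 0 → g₁ * y ∈ O :=
        safe g ih l hl b (Or.inr ⟨k, hk, Ne.symm hlk, hk0⟩)
      have v₁ : ∀ m, entry φ g₁ z m = entry φ g z m := fun m => by
        rw [hg₁, entry_mul_x hφ _ hlz, hzz, zero_mul, ite_self, add_zero]
      set g₂ := g₁ * R.x l k 1 with hg₂
      have ih₂ := stepA g₁ ih₁ (R.x l k 1) (mem_rootGroup hl hk hlk 1)
      have v₂ : ∀ m, entry φ g₂ z m = entry φ g z m := fun m => by
        rw [hg₂, entry_mul_x hφ _ hlk, v₁, v₁, hl0, zero_mul, ite_self, add_zero]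
      set g₃ := g₂ * R.x z l (-b) with hg₃
      have ih₃ : ∀ y ∈ C, entry φ (g₃ * y) z z ≠ 0 → g₃ * y ∈ O :=
        safe g₂ ih₂ l hl (-b) (Or.inr ⟨k, hk, Ne.symm hlk, by rw [v₂]; exact hk0⟩)
      have ih₄ := stepA g₃ ih₃ (R.x l k (-1)) (mem_rootGroup hl hk hlk _)
      have e5 : g * R.x z k b = g₃ * R.x l k (-1) := by rw [e, hg₃, hg₂, hg₁]; simp only [mul_assoc]
      rw [e5] at hne0 ⊢
      exact ih₄ y hy hne0
    have stepC : ∀ g : G, (∀ y ∈ C, entry φ (g * y) z z ≠ 0 → g * y ∈ O) → ∀ c ∈ C,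
        ∀ y ∈ C, entry φ (g * c * y) z z ≠ 0 → g * c * y ∈ O := fun g ih c hc y hy h => by
      rw [mul_assoc] at h ⊢; exact ih _ (mul_mem hc hy) h
    have step : ∀ g ∈ rootGroup R (insert z s), (∀ y ∈ C, entry φ (g * y) z z ≠ 0 → g * y ∈ O) →
        ∀ i ∈ insert z s, ∀ j ∈ insert z s, i ≠ j → ∀ t,
        ∀ y ∈ C, entry φ (g * R.x i j t * y) z z ≠ 0 → g * R.x i j t * y ∈ O := by
      intro g hg ih i hi j hj hij t
      rcases Finset.mem_insert.mp hi with rfl | hi'
      · exact stepW g (supp g hg) ih j ((Finset.mem_insert.mp hj).resolve_left hij.symm) t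
      · rcases Finset.mem_insert.mp hj with rfl | hj'
        · exact stepC g ih _ (Subgroup.subset_closure ⟨i, hi', t, rfl⟩)
        · exact stepA g ih _ (mem_rootGroup hi' hj' hij t)
    induction hg using Subgroup.closure_induction_right with
    | one =>
      intro y hy _
      simpa using AC_O 1 (one_mem _) y hy
    | mul_right g hg w hw ih =>
      obtain ⟨i, hi, j, hj, hij, t, rfl⟩ := hw
      exact step g hg ih i hi j hj hij t
    | mul_inv_cancel g hg w hw ih =>
      obtain ⟨i, hi, j, hj, hij, t, rfl⟩ := hw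
      rw [← R.neg hij]
      exact step g hg ih i hi j hj hij (-t)
  intro g hg h1
  have hg1 : ∀ k l, entry φ g k l = if k = l then 1 else 0 := fun k l => by simp [entry, h1, Matrix.one_apply]
  have hgO : g ∈ O := by
    simpa using (main g hg).2 1 (one_mem _) (by rw [mul_one, hg1, if_pos rfl]; exact one_ne_zero)
  obtain ⟨a, ha, y, hy, d, r, hr, rfl⟩ := hgO
  have hrow : ∀ l, (d : F) * entry φ r z l = if z = l then 1 else 0 := fun l => by
    rw [← rowO a ha y hy d r l]; exact hg1 z l
  have hd : d = 1 := by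
    have := hrow z
    rw [(rowGroup_spec hφ hz r hr).1 z z (Or.inr hz), if_pos rfl, mul_one] at this
    exact Units.ext this
  have hr1 : r = 1 := (rowGroup_spec hφ hz r hr).2 fun l hl => by
    have := hrow l
    rwa [hd, Units.val_one, one_mul, if_neg (hne hl).symm] at this
  have hDd : D d = 1 := by
    show R.h hze d = 1
    rw [hd, RootSys.h, show mH (1 : Fˣ) = (1 : SpecialLinearGroup (Fin 2) F) from mHHom.map_one, map_one]
  rw [hr1, hDd, mul_one, mul_one] at hg1 h1 ⊢
  have hy1 := colGroup_spec hφ hz y hy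
  -- the block
  have hblock : ∀ k l, l ≠ z → entry φ a k l = if k = l then 1 else 0 := fun k l hl => by
    rw [← hg1 k l, entry_mul, Finset.sum_eq_single l]
    · rw [hy1.1 l l (Or.inl hl), if_pos rfl, mul_one]
    · intro m _ hm; rw [hy1.1 m l (Or.inl hl), if_neg hm, mul_zero]
    · simp
  have haφ : φ a = 1 := by
    apply Subtype.ext
    ext k l
    show entry φ a k l = _
    by_cases hl : l = z
    · subst hl; rw [rootGroup_fix hφ ha k l (Or.inr hz)]; simp [Matrix.one_apply]
    · rw [hblock k l hl]; simp [Matrix.one_apply]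
  have ha1 := ih a ha haφ
  rw [ha1, one_mul] at hg1 ⊢
  exact hy1.2 fun k hk => by rw [hg1, if_neg (hne hk)]

/-- Faithfulness. -/
theorem rootGroup_inj (hφ : RootMap R φ) (s : Finset (Fin n)) :
    ∀ g ∈ rootGroup R s, φ g = 1 → g = 1 := by
  induction hc : s.card using Nat.strong_induction_on generalizing s with
  | _ k ih =>
    subst hc
    by_cases h1 : s.card ≤ 1
    · intro g hg _
      have : rootGroup R s ≤ ⊥ := by
        refine (Subgroup.closure_le _).mpr ?_
        rintro _ ⟨i, hi, j, hj, hij, t, rfl⟩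
        exact absurd (Finset.card_le_one.mp h1 i hi j hj) hij
      exact Subgroup.mem_bot.mp (this hg)
    by_cases h2 : s.card = 2
    · obtain ⟨i, j, hij, rfl⟩ := Finset.card_eq_two.mp h2
      exact rootGroup_pair_inj hφ hij
    obtain ⟨z, hzs⟩ := Finset.card_pos.mp (show 0 < s.card by omega)
    have hcard := Finset.card_erase_of_mem hzs
    obtain ⟨e, he⟩ := Finset.card_pos.mp (show 0 < (s.erase z).card by omega)
    rw [← Finset.insert_erase hzs]
    refine rootGroup_step hφ (Finset.notMem_erase z s) he (fun k hk => ?_)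
      (ih _ (Finset.card_erase_lt_of_mem hzs) _ rfl)
    obtain ⟨l, hl, hlk⟩ := Finset.exists_mem_ne (show 1 < (s.erase z).card by omega) k
    exact ⟨l, hl, hlk⟩

end Cfsg.Agent.KSG55.Lin
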