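import Cfsg.Agent.KSG55.Pres.Basic
import Cfsg.Agent.KSG55.Lin.Bruhat
import Cfsg.Agent.KSG55.Lin.SL2Mat
import Cfsg.Agent.KSG55.Lin.Annihilate
import Cfsg.Agent.KSG55.Lin.FieldChoice
import Cfsg.Agent.Lib.LinearGroup.Card

set_option autoImplicit false

/-! Short presentations of `SL₂`. -/

namespace Cfsg.Agent.KSG55.Lin

open Polynomial Cfsg.Agent.KSG55.Pres

variable {F : Type*} [Field F] [Fintype F] {p : ℕ} [Fact p.Prime] [Algebra (ZMod p) F]

theorem polyWord_mem_orb {G : Type*} [Group G] (h u : G) (P : (ZMod p)[X]) :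
    polyWord h u P ∈ orbGroup h u :=
  Subgroup.list_prod_mem _ fun g hg => by
    obtain ⟨l, -, rfl⟩ := List.mem_map.mp hg
    exact pow_mem (mem_orbGroup _ _ _) _

/-- The generators. -/
def gens (a : Fˣ) : Fin 3 → Matrix.SpecialLinearGroup (Fin 2) F := ![mU 1, mH a, mT]

theorem gens_top {a : Fˣ} (hα : Algebra.adjoin (ZMod p) {(a : F) ^ 2} = ⊤) :
    Subgroup.closure (Set.range (gens a)) = ⊤ := by
  refine eq_top_of_mem (Subgroup.subset_closure ⟨2, rfl⟩) fun x => ?_
  obtain ⟨P, hP⟩ := exists_aeval hα x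
  have h := polyWord_mH (p := p) a (1 : F) P
  rw [hP, mul_one] at h
  rw [← h]
  refine Subgroup.list_prod_mem _ fun g hg => ?_
  obtain ⟨l, -, rfl⟩ := List.mem_map.mp hg
  have h1 : mH a ∈ Subgroup.closure (Set.range (gens a)) := Subgroup.subset_closure ⟨1, rfl⟩
  exact pow_mem (mul_mem (mul_mem (pow_mem h1 _) (Subgroup.subset_closure ⟨0, rfl⟩)) (inv_mem (pow_mem h1 _))) _

/-- From the consequences of the relations to injectivity. -/
theorem finish {a : Fˣ} (hα : Algebra.adjoin (ZMod p) {(a : F) ^ 2} = ⊤) {H : Type*} [Group H]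
    (U : Fin 3 → H) (φ : H →* Matrix.SpecialLinearGroup (Fin 2) F) (hU : Subgroup.closure (Set.range U) = ⊤)
    (hφ : ∀ i, φ (U i) = gens a i) (hm : U 1 ^ (Fintype.card F - 1) = 1)
    (hfin : (orbGroup (U 1) (U 0) : Set H).Finite) (hcard : Nat.card (orbGroup (U 1) (U 0)) ≤ Fintype.card F)
    (ht : U 2 * U 1 * (U 2)⁻¹ = (U 1)⁻¹) (ht2 : ∃ k : ℤ, U 2 * U 2 = U 1 ^ k)
    (base : ∀ c : F, c ≠ 0 → ∃ (l : ℕ) (x₀ : F), ((a : F) ^ 2) ^ l * x₀ = c ∧
      ∃ w ∈ orbGroup (U 1) (U 0), φ w = mU x₀ ∧ BigCell (orbGroup (U 1) (U 0)) (U 1) (U 2) (U 2 * w * (U 2)⁻¹)) :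
    ∀ x, φ x = 1 → x = 1 := by
  set A := orbGroup (U 1) (U 0) with hA
  haveI : Finite A := hfin.to_subtype
  have hqpos : 0 < Fintype.card F - 1 := by have := Fintype.one_lt_card (α := F); omega
  have himg : A.map φ = (mUHom : Multiplicative F →* _).range := by
    refine le_antisymm ?_ ?_
    · rw [Subgroup.map_le_iff_le_comap, hA, orbGroup, Subgroup.closure_le]
      rintro _ ⟨l, rfl⟩
      refine ⟨Multiplicative.ofAdd (((a : F) ^ 2) ^ l * 1), ?_⟩
      rw [map_orb, hφ, hφ]
      exact (orb_mH a 1 l).symm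
    · rintro _ ⟨x, rfl⟩
      obtain ⟨P, hP⟩ := exists_aeval hα x.toAdd
      refine ⟨polyWord (U 1) (U 0) P, polyWord_mem_orb _ _ _, ?_⟩
      rw [map_polyWord, hφ, hφ]
      show polyWord (mH a) (mU 1) P = mU x.toAdd
      rw [polyWord_mH, hP, mul_one]
  have hinjU : Function.Injective (mUHom : Multiplicative F →* Matrix.SpecialLinearGroup (Fin 2) F) :=
    fun x y e => Multiplicative.toAdd.injective (mU_inj e)
  have injA : ∀ x ∈ A, φ x = 1 → x = 1 := by
    have hsurj : Function.Surjective (φ.subgroupMap A) := φ.subgroupMap_surjective A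
    have hc : Nat.card (A.map φ) = Fintype.card F := by
      rw [himg, ← Nat.card_congr (MonoidHom.ofInjective hinjU).toEquiv, Nat.card_congr Multiplicative.toAdd,
        Nat.card_eq_fintype_card]
    have heq : Nat.card A = Nat.card (A.map φ) :=
      le_antisymm (hc ▸ hcard) (Nat.card_le_card_of_surjective _ hsurj)
    have hi : Function.Injective (φ.subgroupMap A) := ((Nat.bijective_iff_surjective_and_card _).mpr ⟨hsurj, heq⟩).1
    intro x hx e
    have := @hi ⟨x, hx⟩ 1 (Subtype.ext (by simpa using e))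
    exact congrArg Subtype.val this
  have key : ∀ x ∈ A, x ≠ 1 → BigCell A (U 1) (U 2) (U 2 * x * (U 2)⁻¹) := by
    intro x hx hx1
    obtain ⟨c, hc⟩ : φ x ∈ (mUHom : Multiplicative F →* _).range := himg ▸ Subgroup.mem_map_of_mem φ hx
    have hc0 : c.toAdd ≠ 0 := fun e => hx1 (injA x hx (by rw [← hc]; show mU c.toAdd = 1; rw [e, mU_zero]))
    obtain ⟨l, x₀, hl, w, hw, hwφ, hbig⟩ := base _ hc0
    have hmem : U 1 ^ (l : ℤ) * w * (U 1 ^ (l : ℤ))⁻¹ ∈ A :=
      zpow_conj_mem hqpos hm (fun _ h => orbGroup_conj h) _ hw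
    have hxe : x = U 1 ^ (l : ℤ) * w * (U 1 ^ (l : ℤ))⁻¹ := by
      refine mul_inv_eq_one.mp (injA _ (mul_mem hx (inv_mem hmem)) ?_)
      rw [map_mul, map_inv, mul_inv_eq_one, ← hc, map_mul, map_mul, map_inv, map_zpow, zpow_natCast, hwφ, hφ]
      show mU c.toAdd = orb (mH a) (mU x₀) l
      rw [orb_mH, hl]
    rw [hxe]
    exact bigCell_conj hqpos hm (fun _ h => orbGroup_conj h) ht hbig l
  have hgen : Subgroup.closure ({U 0, U 1, U 2} : Set H) = ⊤ := by
    rw [← hU]
    congr 1
    ext y
    constructor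
    · rintro (rfl | rfl | rfl) <;> exact ⟨_, rfl⟩
    · rintro ⟨i, rfl⟩; fin_cases i <;> simp
  obtain ⟨hfinH, hle⟩ := card_le_bruhat A hfin hcard hqpos hm (by simpa [orb_zero] using mem_orbGroup (U 1) (U 0) 0)
    (fun _ h => orbGroup_conj h) ht ht2 key hgen
  have hsurj : Function.Surjective φ := by
    rw [← MonoidHom.range_eq_top, eq_top_iff, ← gens_top hα, Subgroup.closure_le]
    rintro _ ⟨i, rfl⟩
    exact ⟨U i, hφ i⟩
  have hle' : Nat.card H ≤ Nat.card (Matrix.SpecialLinearGroup (Fin 2) F) := by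
    rw [LinearGroup.card_SL_two, Nat.card_eq_fintype_card (α := F)]
    refine hle.trans (le_of_eq ?_)
    obtain ⟨r, hr⟩ : ∃ r, Fintype.card F = r + 1 := ⟨Fintype.card F - 1, by have := Fintype.card_pos (α := F); omega⟩
    rw [hr, Nat.add_sub_cancel, show (r + 1) ^ 2 = r * (r + 2) + 1 by ring, Nat.add_sub_cancel]
    ring
  haveI := hfinH
  have hinj : Function.Injective φ := ((Nat.bijective_iff_surjective_and_card _).mpr
    ⟨hsurj, le_antisymm hle' (Nat.card_le_card_of_surjective _ hsurj)⟩).1
  exact fun x hx => hinj (hx.trans φ.map_one.symm)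

/-- The relation carrying `x` across the Weyl element. -/
noncomputable def crossWord (Px Py : (ZMod p)[X]) (e : ℕ) : FreeGroup (Fin 3) :=
  FreeGroup.of 2 * polyWord (FreeGroup.of 1) (FreeGroup.of 0) Px * (FreeGroup.of 2)⁻¹ *
    (polyWord (FreeGroup.of 1) (FreeGroup.of 0) Py * FreeGroup.of 1 ^ e * FreeGroup.of 2 *
      polyWord (FreeGroup.of 1) (FreeGroup.of 0) Py)⁻¹

theorem exists_cross {a : Fˣ} (ha : ∀ x : Fˣ, x ∈ Subgroup.zpowers a)
    (hα : Algebra.adjoin (ZMod p) {(a : F) ^ 2} = ⊤) {x : F} (hx : x ≠ 0) :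
    ∃ W : FreeGroup (Fin 3), FreeGroup.lift (gens a) W = 1 ∧
      ∀ (H : Type) [Group H] (U : Fin 3 → H) (φ : H →* Matrix.SpecialLinearGroup (Fin 2) F),
        (∀ i, φ (U i) = gens a i) → FreeGroup.lift U W = 1 →
        ∃ w ∈ orbGroup (U 1) (U 0), φ w = mU x ∧
          BigCell (orbGroup (U 1) (U 0)) (U 1) (U 2) (U 2 * w * (U 2)⁻¹) := by
  obtain ⟨Px, hPx⟩ := exists_aeval hα x
  obtain ⟨Py, hPy⟩ := exists_aeval hα (-x⁻¹)
  obtain ⟨e, he⟩ := mem_powers_iff_mem_zpowers.mpr (ha (Units.mk0 x hx)⁻¹)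
  refine ⟨crossWord Px Py e, ?_, fun H _ U φ hφ hr => ?_⟩
  · simp only [crossWord, map_mul, map_inv, map_pow, map_polyWord, FreeGroup.lift_apply_of]
    show mT * polyWord (mH a) (mU 1) Px * mT⁻¹ *
      (polyWord (mH a) (mU 1) Py * mH a ^ e * mT * polyWord (mH a) (mU 1) Py)⁻¹ = 1
    rw [polyWord_mH, polyWord_mH, hPx, hPy, mul_one, mul_one, mH_pow, show a ^ e = (Units.mk0 x hx)⁻¹ from he,
      ← mT_mU hx, mul_inv_cancel]
  · simp only [crossWord, map_mul, map_inv, map_pow, map_polyWord, FreeGroup.lift_apply_of, mul_inv_eq_one] at hr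
    refine ⟨polyWord (U 1) (U 0) Px, polyWord_mem_orb _ _ _, ?_,
      _, polyWord_mem_orb (U 1) (U 0) Py, (e : ℤ), _, polyWord_mem_orb (U 1) (U 0) Py, by rw [hr, zpow_natCast]⟩
    rw [map_polyWord, hφ, hφ]
    show polyWord (mH a) (mU 1) Px = mU x
    rw [polyWord_mH, hPx, mul_one]

/-- Four relations that give the square of `t`, the order of `h` and bound the conjugates of `u`. -/
theorem borel_words {a : Fˣ} (ha : ∀ x : Fˣ, x ∈ Subgroup.zpowers a) (hp : p ≠ 2)
    (hcard : ∀ x : F, p • x = 0) {n : ℕ} (hneg : a ^ n = -1) (hn : Fintype.card F - 1 = n + n) :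
    ∃ L : List (FreeGroup (Fin 3)), L.length ≤ 4 ∧ (∀ w ∈ L, FreeGroup.lift (gens a) w = 1) ∧
      ∀ (H : Type) [Group H] (U : Fin 3 → H), (∀ w ∈ L, FreeGroup.lift U w = 1) →
        U 2 * U 1 * (U 2)⁻¹ = (U 1)⁻¹ →
        U 2 * U 2 = U 1 ^ n ∧ U 1 ^ (Fintype.card F - 1) = 1 ∧
        (orbGroup (U 1) (U 0) : Set H).Finite ∧ Nat.card (orbGroup (U 1) (U 0)) ≤ Fintype.card F := by
  set α : F := (a : F) ^ 2 with hαd
  set M := minpoly (ZMod p) α with hM
  have hmon : M.Monic := minpoly.monic (Algebra.IsIntegral.isIntegral α)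
  let u : FreeGroup (Fin 3) := FreeGroup.of 0
  let h : FreeGroup (Fin 3) := FreeGroup.of 1
  let t : FreeGroup (Fin 3) := FreeGroup.of 2
  have etn : FreeGroup.lift (gens a) (t * t * (h ^ n)⁻¹) = 1 := by simp [t, h, gens, mT_sq, mH_pow, hneg]
  have order_h : ∀ (H : Type) [Group H] (y z : H), z * y * z⁻¹ = y⁻¹ → z * z = y ^ n →
      y ^ (Fintype.card F - 1) = 1 := by
    intro H _ y z r1 r2
    have e1 : z * y ^ n * z⁻¹ = (y ^ n)⁻¹ := by rw [← conj_pow, r1, inv_pow]
    rw [← r2, show z * (z * z) * z⁻¹ = z * z by group, r2] at e1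
    rw [hn, pow_add]
    exact eq_inv_iff_mul_eq_one.mp e1
  have eu : FreeGroup.lift (gens a) u = mU 1 := by simp [u, gens]
  have eh : FreeGroup.lift (gens a) h = mH a := by simp [h, gens]
  have hup : (mU 1 : Matrix.SpecialLinearGroup (Fin 2) F) ^ p = 1 := by rw [mU_pow, hcard, mU_zero]
  have hU0 : ∀ x y : F, Commute (mU x) (mU y) := fun x y => by
    show mU x * mU y = mU y * mU x
    rw [mU_mul, mU_mul, add_comm]
  by_cases hdeg : M.natDegree ≤ 2
  · refine ⟨[u ^ p, u * orb h u 1 * u⁻¹ * (orb h u 1)⁻¹, polyWord h u M, t * t * (h ^ n)⁻¹], by simp, ?_,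
      fun H _ U hr ht => ?_⟩
    · intro w hw
      simp only [List.mem_cons, List.not_mem_nil, or_false] at hw
      rcases hw with rfl | rfl | rfl | rfl
      · rw [map_pow, eu, hup]
      · simp only [map_mul, map_inv, map_orb, eu, eh, orb_mH]
        rw [(hU0 _ _).eq, mul_inv_cancel_right, mul_inv_cancel]
      · rw [map_polyWord, eu, eh, polyWord_mH, ← hαd, hM, minpoly.aeval, zero_mul, mU_zero]
      · exact etn
    · simp only [List.mem_cons, List.not_mem_nil, or_false, forall_eq_or_imp, forall_eq, map_mul, map_inv, map_pow,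
        map_orb, map_polyWord, u, h, t, FreeGroup.lift_apply_of, mul_inv_eq_iff_eq_mul, one_mul] at hr
      obtain ⟨r1, r2, r3, r0⟩ := hr
      have hc1 : Commute (U 0) (orb (U 1) (U 0) 1) := r2
      set B := Subgroup.closure ({U 0, orb (U 1) (U 0) 1} : Set H) with hB
      have hcB : ∀ x ∈ B, Commute (U 0) x := fun x hx => by
        have : B ≤ Subgroup.centralizer {U 0} := by
          rw [hB, Subgroup.closure_le]
          rintro _ (rfl | rfl)
          · exact Subgroup.mem_centralizer_singleton_iff.mpr rfl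
          · exact Subgroup.mem_centralizer_singleton_iff.mpr hc1.eq.symm
        exact (Subgroup.mem_centralizer_singleton_iff.mp (this hx)).symm
      have low : ∀ l, l < 2 → orb (U 1) (U 0) l ∈ B := fun l hl => by
        rcases (show l = 0 ∨ l = 1 by omega) with rfl | rfl
        · rw [orb_zero]; exact Subgroup.subset_closure (Or.inl rfl)
        · exact Subgroup.subset_closure (Or.inr rfl)
      have hk : orb (U 1) (U 0) M.natDegree ∈ B := by
        rw [polyWord, List.range_succ, List.map_append, List.prod_append, List.map_singleton, List.prod_singleton,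
          show M.coeff M.natDegree = 1 from hmon.coeff_natDegree, ZMod.val_one, pow_one] at r3
        rw [eq_inv_of_mul_eq_one_right r3]
        refine inv_mem (Subgroup.list_prod_mem _ fun g hg => ?_)
        obtain ⟨l, hl, rfl⟩ := List.mem_map.mp hg
        exact pow_mem (low l (by have := List.mem_range.mp hl; omega)) _
      have hkpos : 0 < M.natDegree := minpoly.natDegree_pos (Algebra.IsIntegral.isIntegral α)
      have h2 : orb (U 1) (U 0) 2 ∈ B := by
        rcases (show M.natDegree = 1 ∨ M.natDegree = 2 by omega) with e | e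
        · rw [polyWord, e, List.range_succ, List.range_succ, List.range_zero] at r3
          simp only [List.nil_append, List.cons_append, List.map_cons, List.map_nil, List.prod_cons, List.prod_nil,
            mul_one, show M.coeff 1 = 1 from e ▸ hmon.coeff_natDegree, ZMod.val_one, pow_one, orb_zero] at r3
          have e1 := eq_inv_of_mul_eq_one_right r3
          rw [← orb_succ (U 1) (U 0) 1, e1, ← inv_pow, ← conj_pow]
          refine pow_mem ?_ _
          rw [show U 1 * (U 0)⁻¹ * (U 1)⁻¹ = (U 1 * U 0 * (U 1)⁻¹)⁻¹ by group]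
          exact inv_mem (by simpa [orb] using low 1 (by omega))
        · rwa [e] at hk
      have all : ∀ l, orb (U 1) (U 0) l ∈ B := fun l => by
        induction l with
        | zero => exact low 0 (by omega)
        | succ l ih =>
          rw [← orb_succ]
          have : B ≤ B.comap (MulAut.conj (U 1)).toMonoidHom := by
            conv_lhs => rw [hB]
            rw [Subgroup.closure_le]
            rintro _ (rfl | rfl)
            · show U 1 * U 0 * (U 1)⁻¹ ∈ B
              simpa [orb] using low 1 (by omega)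
            · show U 1 * orb (U 1) (U 0) 1 * (U 1)⁻¹ ∈ B
              rw [orb_succ]; exact h2
          exact this ih
      obtain ⟨f, c⟩ := card_orbGroup_le (fun l => hcB _ (all l)) r1 hmon r3
      exact ⟨r0, order_h H _ _ ht r0, f, c.trans (pow_natDegree_minpoly_le α)⟩
  · have h9 : 9 < Fintype.card F := by
      have h3 : p ^ 3 ≤ Fintype.card F :=
        le_trans (Nat.pow_le_pow_right (Fact.out : p.Prime).pos (show 3 ≤ (minpoly (ZMod p) α).natDegree by
          rw [← hM]; omega)) (pow_natDegree_minpoly_le α)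
      have : 27 ≤ p ^ 3 :=
        le_trans (by norm_num) (Nat.pow_le_pow_left (show 3 ≤ p by have := (Fact.out : p.Prime).two_le; omega) 3)
      omega
    obtain ⟨i, j, hij, his⟩ := exists_link_exponents (p := p) hp h9 ha
    rw [← hαd] at hij his
    obtain ⟨P, hP, hspan⟩ := exists_link_poly (α := α) (pow_ne_zero 2 a.ne_zero) his
    refine ⟨[t * t * (h ^ n)⁻¹ * (u ^ p)⁻¹, u * orb h u i * u⁻¹ * (orb h u i)⁻¹, orb h u j * (u * orb h u i)⁻¹,
      orb h u 1 * (polyWord (h ^ i) u P)⁻¹], by simp, ?_, fun H _ U hr ht => ?_⟩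
    · intro w hw
      simp only [List.mem_cons, List.not_mem_nil, or_false] at hw
      rcases hw with rfl | rfl | rfl | rfl
      · rw [map_mul, etn, map_inv, map_pow, eu, hup, inv_one, one_mul]
      · simp only [map_mul, map_inv, map_orb, eu, eh, orb_mH]
        rw [(hU0 _ _).eq, mul_inv_cancel_right, mul_inv_cancel]
      · simp only [map_mul, map_inv, map_orb, eu, eh, orb_mH, mul_inv_eq_one, mU_mul]
        rw [← hαd, mul_one, mul_one, ← hij, add_comm]
      · simp only [map_mul, map_inv, map_orb, map_polyWord, map_pow, eu, eh, orb_mH, mul_inv_eq_one]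
        rw [mH_pow, polyWord_mH, Units.val_pow_eq_pow_val,
          show ((a : F) ^ i) ^ 2 = α ^ i by rw [hαd, ← pow_mul, ← pow_mul, mul_comm], hP, pow_one]
    · simp only [List.mem_cons, List.not_mem_nil, or_false, forall_eq_or_imp, forall_eq, map_mul, map_inv, map_pow,
        map_orb, map_polyWord, u, h, t, FreeGroup.lift_apply_of, mul_inv_eq_iff_eq_mul, one_mul] at hr
      obtain ⟨r0, r2, r3, r4⟩ := hr
      set x := U 0
      set y := U 1
      set z := U 2
      have ca : ∀ l, Commute x (orb (y ^ i) x l) := commute_of_link (a := y ^ i) (b := y ^ j)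
        (Commute.pow_pow_self y i j) r2 r3
      -- the `p`th power is fixed by `y`, and squares itself under the linking relation
      have r1 : x ^ p = 1 := by
        have hcy : Commute y (z * z) := by
          have e : z * z * y * (z * z)⁻¹ = y := by
            rw [show z * z * y * (z * z)⁻¹ = z * (z * y * z⁻¹) * z⁻¹ by group, ht,
              show z * y⁻¹ * z⁻¹ = (z * y * z⁻¹)⁻¹ by group, ht, inv_inv]
          exact (mul_inv_eq_iff_eq_mul.mp e).symm
        have hc : Commute y (x ^ p) := by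
          have e : x ^ p = z * z * (y ^ n)⁻¹ := by rw [r0, mul_inv_cancel_right]
          rw [e]
          exact hcy.mul_right (Commute.self_pow y n).inv_right
        have fix' : ∀ k, y ^ k * x ^ p * (y ^ k)⁻¹ = x ^ p := fun k => by
          rw [(hc.pow_left k).eq, mul_inv_cancel_right]
        have e2 := congrArg (fun g => g ^ p) r3
        simp only [orb] at e2
        rw [conj_pow, fix', (ca 1 : Commute x (orb (y ^ i) x 1)) |> fun h => (show Commute x (y ^ i * x * (y ^ i)⁻¹) by
          simpa [orb] using h).mul_pow, conj_pow, fix'] at e2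
        exact mul_eq_left.mp e2.symm
      have r0' : z * z = y ^ n := by rw [r0, r1, one_mul]
      have hm := order_h H y z ht r0'
      have e1 : y * x * y⁻¹ = polyWord (y ^ i) x P := by simpa [orb] using r4
      have hx : y * x * y⁻¹ ∈ orbGroup (y ^ i) x := e1 ▸ polyWord_mem_orb _ _ _
      have inv : orbGroup (y ^ i) x ≤ (orbGroup (y ^ i) x).comap (MulAut.conj y).toMonoidHom := by
        conv_lhs => rw [orbGroup]
        rw [Subgroup.closure_le]
        rintro _ ⟨l, rfl⟩
        show y * orb (y ^ i) x l * y⁻¹ ∈ orbGroup (y ^ i) x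
        have : ∀ l, (y ^ i) ^ l * (y * x * y⁻¹) * ((y ^ i) ^ l)⁻¹ ∈ orbGroup (y ^ i) x := fun l => by
          induction l with
          | zero => simpa using hx
          | succ l ih =>
            rw [pow_succ', show y ^ i * (y ^ i) ^ l * (y * x * y⁻¹) * (y ^ i * (y ^ i) ^ l)⁻¹ =
              y ^ i * ((y ^ i) ^ l * (y * x * y⁻¹) * ((y ^ i) ^ l)⁻¹) * (y ^ i)⁻¹ by group]
            exact orbGroup_conj ih
        refine (show y * orb (y ^ i) x l * y⁻¹ = (y ^ i) ^ l * (y * x * y⁻¹) * ((y ^ i) ^ l)⁻¹ from ?_) ▸ this l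
        have hc : y * (y ^ i) ^ l = (y ^ i) ^ l * y := by rw [← pow_mul, ← pow_succ', pow_succ]
        rw [orb, show y * ((y ^ i) ^ l * x * ((y ^ i) ^ l)⁻¹) * y⁻¹ = (y * (y ^ i) ^ l) * x * (y * (y ^ i) ^ l)⁻¹ by group,
          hc]
        group
      have all : ∀ l, orb y x l ∈ orbGroup (y ^ i) x := fun l => by
        induction l with
        | zero => simpa [orb] using mem_orbGroup (y ^ i) x 0
        | succ l ih => rw [← orb_succ]; exact inv ih
      have hx0 : x ∈ orbGroup (y ^ i) x := by simpa [orb] using mem_orbGroup (y ^ i) x 0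
      have cy : ∀ l, Commute x (orb y x l) := fun l => orbGroup_commute ca hx0 (all l)
      have hone := polyWord_eq_one cy r1 hm e1 hspan
      obtain ⟨f, c⟩ := card_orbGroup_le cy r1 hmon hone
      exact ⟨r0', hm, f, c.trans (pow_natDegree_minpoly_le α)⟩

/-- Odd characteristic: seven relations. -/
theorem presOn_odd {a : Fˣ} (ha : ∀ x : Fˣ, x ∈ Subgroup.zpowers a) (hp : p ≠ 2) :
    PresOn (gens a) 7 := by
  haveI : CharP F p := charP_of_injective_algebraMap (algebraMap (ZMod p) F).injective p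
  have hord : orderOf (a : F) = Fintype.card F - 1 := by
    rw [orderOf_units, orderOf_eq_card_of_forall_mem_zpowers ha, Nat.card_units, Nat.card_eq_fintype_card]
  have hodd : Odd (Fintype.card F) := by
    rw [Module.card_eq_pow_finrank (K := ZMod p) (V := F), ZMod.card]
    exact ((Fact.out : p.Prime).odd_of_ne_two hp).pow
  obtain ⟨n, hn⟩ := hodd
  have hn0 : 0 < n := by have := Fintype.one_lt_card (α := F); omega
  have ha0 : (a : F) ≠ 0 := a.ne_zero
  have hα : Algebra.adjoin (ZMod p) {(a : F) ^ 2} = ⊤ := by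
    refine adjoin_eq_top_of_orderOf (pow_ne_zero 2 ha0) ?_
    rw [orderOf_pow' _ (by norm_num), hord, hn, show 2 * n + 1 - 1 = 2 * n by omega, Nat.gcd_mul_right_left,
      Nat.mul_div_cancel_left _ (by norm_num)]
  have hneg : a ^ n = -1 := by
    have h2 : ((a : F) ^ n) ^ 2 = 1 := by
      rw [← pow_mul, mul_comm, show 2 * n = Fintype.card F - 1 by omega, FiniteField.pow_card_sub_one_eq_one _ ha0]
    rcases sq_eq_one_iff.mp h2 with h | h
    · have := Nat.le_of_dvd hn0 (orderOf_dvd_of_pow_eq_one h)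
      omega
    · exact Units.ext (by simpa using h)
  obtain ⟨L, hL, hLrel, hLinj⟩ := borel_words (p := p) ha hp (fun x => by simp) hneg (by omega)
  obtain ⟨W1, hW1, hW1'⟩ := exists_cross ha hα (x := 1) one_ne_zero
  obtain ⟨W2, hW2, hW2'⟩ := exists_cross ha hα (x := (a : F)) ha0
  let h : FreeGroup (Fin 3) := FreeGroup.of 1
  let t : FreeGroup (Fin 3) := FreeGroup.of 2
  refine presOn_of_inj _ (L ++ [t * h * t⁻¹ * h, W1, W2]) (by simp; omega) ?_ (gens_top hα) ?_
  · intro w hw
    rcases List.mem_append.mp hw with hw | hw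
    · exact hLrel w hw
    · simp only [List.mem_cons, List.not_mem_nil, or_false] at hw
      rcases hw with rfl | rfl | rfl
      · simp [t, h, gens, mT_conj]
      · exact hW1
      · exact hW2
  · intro H _ U φ hU hr hφ
    have r1 : U 2 * U 1 * (U 2)⁻¹ = (U 1)⁻¹ := by
      have := hr (t * h * t⁻¹ * h) (by simp)
      simp only [map_mul, map_inv, t, h, FreeGroup.lift_apply_of] at this
      exact eq_inv_of_mul_eq_one_left this
    obtain ⟨r2, hm, hfin, hcard⟩ := hLinj H U (fun w hw => hr w (List.mem_append_left _ hw)) r1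
    refine finish hα U φ hU hφ hm hfin hcard r1 ⟨n, by rw [r2, zpow_natCast]⟩ fun c hc => ?_
    obtain ⟨k, hk⟩ := mem_powers_iff_mem_zpowers.mpr (ha (Units.mk0 c hc))
    have hk' : (a : F) ^ k = c := by simpa using congrArg Units.val hk
    rcases Nat.even_or_odd k with ⟨l, rfl⟩ | ⟨l, rfl⟩
    · refine ⟨l, 1, by rw [mul_one, ← pow_mul, ← hk']; congr 1; omega, hW1' H U φ hφ (hr _ (by simp))⟩
    · refine ⟨l, (a : F), by rw [← pow_mul, ← pow_succ, ← hk'], hW2' H U φ hφ (hr _ (by simp))⟩

/-- Characteristic two: five relations. -/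
theorem presOn_two [CharP F 2] {a : Fˣ} (ha : ∀ x : Fˣ, x ∈ Subgroup.zpowers a) (hp : p = 2) :
    PresOn (gens a) 5 := by
  subst hp
  have hord : orderOf (a : F) = Fintype.card F - 1 := by
    rw [orderOf_units, orderOf_eq_card_of_forall_mem_zpowers ha, Nat.card_units, Nat.card_eq_fintype_card]
  have hq1 := Fintype.one_lt_card (α := F)
  have heven : Even (Fintype.card F) := by
    rw [Module.card_eq_pow_finrank (K := ZMod 2) (V := F), ZMod.card]
    exact (even_two).pow_of_ne_zero Module.finrank_pos.ne'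
  obtain ⟨n, hn⟩ := heven
  have hm_odd : Fintype.card F - 1 = 2 * (n - 1) + 1 := by omega
  have ha0 : (a : F) ≠ 0 := a.ne_zero
  set α : F := (a : F) ^ 2 with hαd
  have hα0 : α ≠ 0 := pow_ne_zero 2 ha0
  have hordα : orderOf α = Fintype.card F - 1 := by
    rw [hαd, orderOf_pow' _ (by norm_num), hord, hm_odd]
    have : Nat.gcd (2 * (n - 1) + 1) 2 = 1 := by simp
    rw [this, Nat.div_one]
  have hα : Algebra.adjoin (ZMod 2) {α} = ⊤ := adjoin_eq_top_of_orderOf hα0 (by omega)
  have gen : ∀ c : F, c ≠ 0 → ∃ l : ℕ, α ^ l = c := fun c hc => by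
    obtain ⟨k, hk⟩ := mem_powers_iff_mem_zpowers.mpr (ha (Units.mk0 c hc))
    have hk' : (a : F) ^ k = c := by simpa using congrArg Units.val hk
    refine ⟨k * n, ?_⟩
    rw [hαd, ← pow_mul, show 2 * (k * n) = k * (n + n) by ring, pow_mul, ← hn, FiniteField.pow_card, hk']
  let u : FreeGroup (Fin 3) := FreeGroup.of 0
  let h : FreeGroup (Fin 3) := FreeGroup.of 1
  let t : FreeGroup (Fin 3) := FreeGroup.of 2
  have eu : FreeGroup.lift (gens a) u = mU 1 := by simp [u, gens]
  have eh : FreeGroup.lift (gens a) h = mH a := by simp [h, gens]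
  have et : FreeGroup.lift (gens a) t = mT := by simp [t, gens]
  have neg_one : (-1 : Fˣ) = 1 := Units.ext (by simp [CharTwo.neg_eq])
  have utu : (mU 1 * mT * mU 1 : Matrix.SpecialLinearGroup (Fin 2) F) = mT * mU 1 * mT := by
    apply Subtype.ext
    ext i j
    fin_cases i <;> fin_cases j <;> simp [Matrix.mul_apply, Fin.sum_univ_two, CharTwo.neg_eq, CharTwo.add_self_eq_zero]
  obtain ⟨L, hL, hLrel, hLinj⟩ : ∃ L : List (FreeGroup (Fin 3)), L.length ≤ 3 ∧
      (∀ w ∈ L, FreeGroup.lift (gens a) w = 1) ∧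
      ∀ (H : Type) [Group H] (U : Fin 3 → H), (∀ w ∈ L, FreeGroup.lift U w = 1) →
        U 0 * U 0 = 1 ∧ U 1 ^ (Fintype.card F - 1) = 1 ∧
        (orbGroup (U 1) (U 0) : Set H).Finite ∧ Nat.card (orbGroup (U 1) (U 0)) ≤ Fintype.card F := by
    have u2 : FreeGroup.lift (gens a) (u * u) = 1 := by rw [map_mul, eu, mU_mul, CharTwo.add_self_eq_zero, mU_zero]
    by_cases h2 : Fintype.card F = 2
    · refine ⟨[u * u, h], by simp, ?_, fun H _ U hr => ?_⟩
      · intro w hw
        simp only [List.mem_cons, List.not_mem_nil, or_false] at hw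
        rcases hw with rfl | rfl
        · exact u2
        · rw [eh]
          have : a = 1 := Units.ext (orderOf_eq_one_iff.mp (by rw [hord, h2]))
          rw [this]; exact mHHom.map_one
      · simp only [List.mem_cons, List.not_mem_nil, or_false, forall_eq_or_imp, forall_eq, map_mul, u, h,
          FreeGroup.lift_apply_of] at hr
        obtain ⟨r1, r2⟩ := hr
        have hle : orbGroup (U 1) (U 0) ≤ Subgroup.zpowers (U 0) := by
          rw [orbGroup, Subgroup.closure_le]
          rintro _ ⟨l, rfl⟩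
          simp [orb, r2]
        have hfo : IsOfFinOrder (U 0) := isOfFinOrder_iff_pow_eq_one.mpr ⟨2, by norm_num, by rw [pow_two, r1]⟩
        have hf : ((Subgroup.zpowers (U 0) : Subgroup H) : Set H).Finite := hfo.finite_zpowers
        haveI := hf.to_subtype
        refine ⟨r1, by simp [r2], hf.subset hle, ?_⟩
        refine le_trans (Nat.card_le_card_of_injective _ (Subgroup.inclusion_injective hle)) ?_
        rw [Nat.card_zpowers, h2]
        exact Nat.le_of_dvd (by norm_num) (orderOf_dvd_of_pow_eq_one (by rw [pow_two, r1]))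
    · have hα1 : α + 1 ≠ 0 := by
        intro e
        have : α = 1 := by
          have := CharTwo.add_eq_zero.mp e
          exact this
        rw [this, orderOf_one] at hordα
        omega
      obtain ⟨j, hj⟩ := gen (α + 1) hα1
      set M := minpoly (ZMod 2) α with hM
      refine ⟨[u * u, orb h u j * (u * orb h u 1)⁻¹, polyWord h u M * (h ^ (Fintype.card F - 1))⁻¹], by simp, ?_,
        fun H _ U hr => ?_⟩
      · intro w hw
        simp only [List.mem_cons, List.not_mem_nil, or_false] at hw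
        rcases hw with rfl | rfl | rfl
        · exact u2
        · simp only [map_mul, map_inv, map_orb, eu, eh, orb_mH, mul_inv_eq_one, mU_mul]
          rw [← hαd, hj, pow_one, mul_one, mul_one, add_comm]
        · rw [map_mul, map_inv, map_pow, map_polyWord, eu, eh, polyWord_mH, ← hαd, hM, minpoly.aeval, zero_mul,
            mU_zero, one_mul, inv_eq_one, mH_pow]
          have : a ^ (Fintype.card F - 1) = 1 := Units.ext (by simp [FiniteField.pow_card_sub_one_eq_one _ ha0])
          rw [this]; exact mHHom.map_one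
      · simp only [List.mem_cons, List.not_mem_nil, or_false, forall_eq_or_imp, forall_eq, map_mul, map_inv, map_pow,
          map_orb, map_polyWord, u, h, FreeGroup.lift_apply_of, mul_inv_eq_one] at hr
        obtain ⟨r1, r2, r3⟩ := hr
        set x := U 0
        set y := U 1
        have hx1 : Commute x (orb y x 1) := by
          have e : (x * orb y x 1) * (x * orb y x 1) = 1 := by
            rw [← r2, ← pow_two, orb, conj_pow, pow_two, r1, mul_one, mul_inv_cancel]
          have ho : orb y x 1 * orb y x 1 = 1 := by rw [← pow_two, orb, conj_pow, pow_two, r1, mul_one, mul_inv_cancel]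
          have h1 := eq_inv_of_mul_eq_one_right e
          rw [mul_inv_rev, inv_eq_of_mul_eq_one_right r1, inv_eq_of_mul_eq_one_right ho] at h1
          exact h1
        have hc : ∀ l, Commute x (orb y x l) := commute_of_link (a := y) (b := y ^ j) (Commute.self_pow y j)
          (by simpa [orb] using hx1) (by simpa [orb] using r2)
        -- the product is fixed by conjugation, hence trivial
        set c := y ^ (Fintype.card F - 1) with hc'
        have hcA : c ∈ orbGroup y x := r3 ▸ polyWord_mem_orb _ _ _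
        have step : ∀ g ∈ orbGroup y x, y ^ j * g * (y ^ j)⁻¹ = g * (y * g * y⁻¹) := by
          intro g hg
          induction hg using Subgroup.closure_induction with
          | mem g hg =>
            obtain ⟨l, rfl⟩ := hg
            rw [orb_succ, orb_add, Nat.add_comm j l, ← orb_add y x l j, r2]
            rw [show y ^ l * (x * orb y x 1) * (y ^ l)⁻¹ =
              (y ^ l * x * (y ^ l)⁻¹) * (y ^ l * orb y x 1 * (y ^ l)⁻¹) by group, orb_add]
            rfl
          | one => simp
          | mul g g' hg hg' ih ih' =>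
            have hcm : Commute (y * g * y⁻¹) g' := orbGroup_commute hc (orbGroup_conj hg) hg'
            calc y ^ j * (g * g') * (y ^ j)⁻¹ = (y ^ j * g * (y ^ j)⁻¹) * (y ^ j * g' * (y ^ j)⁻¹) := by group
              _ = g * ((y * g * y⁻¹) * g') * (y * g' * y⁻¹) := by rw [ih, ih']; group
              _ = g * (g' * (y * g * y⁻¹)) * (y * g' * y⁻¹) := by rw [hcm.eq]
              _ = _ := by group
          | inv g hg ih =>
            have hcm : Commute (y * g * y⁻¹) g := orbGroup_commute hc (orbGroup_conj hg) hg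
            calc y ^ j * g⁻¹ * (y ^ j)⁻¹ = (y ^ j * g * (y ^ j)⁻¹)⁻¹ := by group
              _ = (g * (y * g * y⁻¹))⁻¹ := by rw [ih]
              _ = ((y * g * y⁻¹) * g)⁻¹ := by rw [hcm.eq]
              _ = _ := by group
        have hc1 : c = 1 := by
          have e := step c hcA
          rw [hc', ← pow_add, Nat.add_comm, pow_add, mul_inv_cancel_right, ← pow_succ', pow_succ,
            mul_inv_cancel_right] at e
          exact mul_eq_left.mp e.symm
        rw [hc1] at r3
        obtain ⟨f, cc⟩ := card_orbGroup_le hc (by rw [pow_two, r1]) (minpoly.monic (Algebra.IsIntegral.isIntegral α)) r3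
        exact ⟨r1, hc1, f, cc.trans (pow_natDegree_minpoly_le α)⟩
  refine presOn_of_inj _ (L ++ [t * h * t * h, u * t * u * (t * u * t)⁻¹]) (by simp; omega) ?_ (gens_top hα) ?_
  · intro w hw
    rcases List.mem_append.mp hw with hw | hw
    · exact hLrel w hw
    · simp only [List.mem_cons, List.not_mem_nil, or_false] at hw
      have mTinv : (mT⁻¹ : Matrix.SpecialLinearGroup (Fin 2) F) = mT := by
        refine inv_eq_of_mul_eq_one_right ?_
        rw [mT_sq, neg_one]; exact mHHom.map_one
      rcases hw with rfl | rfl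
      · rw [map_mul, map_mul, map_mul, et, eh]
        have := mT_conj (F := F) a
        rw [mTinv] at this
        rw [this, inv_mul_cancel]
      · simp only [map_mul, map_inv, eu, et, utu, mul_inv_cancel]
  · intro H _ U φ hU hr hφ
    obtain ⟨r1, hm, hfin, hcard⟩ := hLinj H U fun w hw => hr w (List.mem_append_left _ hw)
    have rt : U 0 * U 2 * U 0 = U 2 * U 0 * U 2 := by
      have := hr (u * t * u * (t * u * t)⁻¹) (by simp)
      simp only [map_mul, map_inv, u, t, FreeGroup.lift_apply_of, mul_inv_eq_one] at this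
      exact this
    have t2 : U 2 * U 2 = 1 := by
      have e : U 2 = (U 0 * U 2) * U 0 * (U 0 * U 2)⁻¹ := by
        rw [rt]; group
      rw [e, show U 0 * U 2 * U 0 * (U 0 * U 2)⁻¹ * (U 0 * U 2 * U 0 * (U 0 * U 2)⁻¹) =
        U 0 * U 2 * (U 0 * U 0) * (U 0 * U 2)⁻¹ by group, r1, mul_one, mul_inv_cancel]
    have tinv : (U 2)⁻¹ = U 2 := inv_eq_of_mul_eq_one_right t2
    have rh : U 2 * U 1 * (U 2)⁻¹ = (U 1)⁻¹ := by
      have := hr (t * h * t * h) (by simp)
      simp only [map_mul, t, h, FreeGroup.lift_apply_of] at this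
      rw [tinv]
      exact eq_inv_of_mul_eq_one_left this
    refine finish hα U φ hU hφ hm hfin hcard rh ⟨0, by rw [t2, zpow_zero]⟩ fun c hc => ?_
    obtain ⟨l, hl⟩ := gen c hc
    have hmem : U 0 ∈ orbGroup (U 1) (U 0) := by simpa [orb_zero] using mem_orbGroup (U 1) (U 0) 0
    refine ⟨l, 1, by rw [mul_one, ← hαd, hl], U 0, hmem, hφ 0, U 0, hmem, 0, U 0, hmem, ?_⟩
    rw [zpow_zero, mul_one, tinv, rt]

end Cfsg.Agent.KSG55.Lin
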