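import Cfsg.Agent.KSG55.Lin.Sys3
import Cfsg.Agent.KSG55.Lin.SL2
import Cfsg.Agent.KSG55.Pres.HomOf

set_option autoImplicit false

/-! A presentation of `SL₃` with four generators and fourteen relations. -/

namespace Cfsg.Agent.KSG55.Lin

open Matrix Cfsg.Agent.KSG55.Pres

variable {F : Type*} [Field F]

/-- The corner embedding. -/
def eMFun (M : SpecialLinearGroup (Fin 2) F) : SpecialLinearGroup (Fin 3) F :=
  ⟨!![M.1 0 0, M.1 0 1, 0; M.1 1 0, M.1 1 1, 0; 0, 0, 1], by
    have h := M.2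
    rw [Matrix.det_fin_two] at h
    rw [Matrix.det_fin_three]
    simp
    linear_combination h⟩

theorem eMFun_coe (M : SpecialLinearGroup (Fin 2) F) : (eMFun M : Matrix (Fin 3) (Fin 3) F) =
    !![M.1 0 0, M.1 0 1, 0; M.1 1 0, M.1 1 1, 0; 0, 0, 1] := rfl

/-- The same, as a homomorphism. -/
def eM : SpecialLinearGroup (Fin 2) F →* SpecialLinearGroup (Fin 3) F where
  toFun := eMFun
  map_one' := by
    apply Subtype.ext; ext i j; fin_cases i <;> fin_cases j <;> simp [eMFun_coe]
  map_mul' M N := by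
    apply Subtype.ext; ext i j
    fin_cases i <;> fin_cases j <;> simp [eMFun_coe, Matrix.mul_apply, Fin.sum_univ_three, Fin.sum_univ_two]

@[simp] theorem eM_coe (M : SpecialLinearGroup (Fin 2) F) : (eM M : Matrix (Fin 3) (Fin 3) F) =
    !![M.1 0 0, M.1 0 1, 0; M.1 1 0, M.1 1 1, 0; 0, 0, 1] := rfl

/-- The cyclic permutation. -/
def mW : SpecialLinearGroup (Fin 3) F :=
  ⟨!![0, 0, 1; 1, 0, 0; 0, 1, 0], by simp [Matrix.det_fin_three]⟩

@[simp] theorem mW_coe : ((mW : SpecialLinearGroup (Fin 3) F) : Matrix (Fin 3) (Fin 3) F) =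
    !![0, 0, 1; 1, 0, 0; 0, 1, 0] := rfl

theorem mW_cube : (mW : SpecialLinearGroup (Fin 3) F) ^ 3 = 1 := by
  rw [pow_three]
  apply Subtype.ext; ext i j
  fin_cases i <;> fin_cases j <;> simp [Matrix.mul_apply, Fin.sum_univ_three]

theorem mW_inv : (mW : SpecialLinearGroup (Fin 3) F)⁻¹ = mW * mW :=
  inv_eq_of_mul_eq_one_right (by rw [← pow_three, mW_cube])

/-- The model. -/
def model (a : Fˣ) : Sys3 a (SpecialLinearGroup (Fin 3) F) where
  ι := eM
  w := mW
  cube := mW_cube
  torus M := by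
    rw [_root_.mul_inv_rev, _root_.mul_inv_rev, inv_inv, ← map_inv eM, mH_inv, mW_inv]
    apply Subtype.ext; ext i j
    fin_cases i <;> fin_cases j <;> simp [Matrix.mul_apply, Fin.sum_univ_three] <;> field_simp
  weyl := by
    rw [pow_two]
    apply Subtype.ext; ext i j
    fin_cases i <;> fin_cases j <;> simp [Matrix.mul_apply, Fin.sum_univ_three]

theorem model_x (a : Fˣ) {i j : Fin 3} (h : i ≠ j) (t : F) :
    (model a).x i j t = SpecialLinearGroup.transvection h t := by
  fin_cases i <;> fin_cases j <;> first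
    | exact absurd rfl h
    | (apply Subtype.ext
       simp [Sys3.x, Sys3.wp, model, pow_two, mW_inv, SpecialLinearGroup.transvection_coe]
       ext k l
       fin_cases k <;> fin_cases l <;>
         simp [Matrix.mul_apply, Fin.sum_univ_three, Matrix.one_apply, Matrix.single_apply])

theorem model_rels (a : Fˣ) (s t : F) : (model a).RA s t ∧ (model a).RB s t ∧ (model a).RC s t := by
  refine ⟨?_, ?_, ?_⟩ <;>
    simp only [Sys3.RA, Sys3.RB, Sys3.RC, Commute, SemiconjBy, model_x a (show (0 : Fin 3) ≠ 1 by decide),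
      model_x a (show (0 : Fin 3) ≠ 2 by decide), model_x a (show (1 : Fin 3) ≠ 2 by decide)] <;>
    (apply Subtype.ext
     ext k l
     fin_cases k <;> fin_cases l <;>
       simp [SpecialLinearGroup.transvection_coe, Matrix.mul_apply, Fin.sum_univ_three, Matrix.one_apply,
         Matrix.single_apply, add_comm, mul_comm])

variable [Fintype F] {p : ℕ} [Fact p.Prime] [Algebra (ZMod p) F]

theorem adjoin_sq_eq_top {a : Fˣ} (ha : ∀ x : Fˣ, x ∈ Subgroup.zpowers a) :
    Algebra.adjoin (ZMod p) {(a : F) ^ 2} = ⊤ := by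
  have hord : orderOf (a : F) = Fintype.card F - 1 := by
    rw [orderOf_units, orderOf_eq_card_of_forall_mem_zpowers ha, Nat.card_units, Nat.card_eq_fintype_card]
  refine adjoin_eq_top_of_orderOf (pow_ne_zero 2 a.ne_zero) ?_
  have hd := orderOf_pow' (a : F) (show 2 ≠ 0 by norm_num)
  rw [hd, hord]
  rcases Nat.even_or_odd (Fintype.card F - 1) with ⟨k, hk⟩ | ⟨k, hk⟩ <;> rw [hk]
  · rw [← two_mul, Nat.gcd_mul_right_left, Nat.mul_div_cancel_left _ (by norm_num)]
  · have : Nat.gcd (2 * k + 1) 2 = 1 := by simp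
    rw [this, Nat.div_one]; omega

theorem adjoin_cube_eq_top {a : Fˣ} (ha : ∀ x : Fˣ, x ∈ Subgroup.zpowers a) (h4 : Fintype.card F ≠ 4) :
    Algebra.adjoin (ZMod p) {(a : F) ^ 3} = ⊤ := by
  by_contra hne
  obtain ⟨d, hd, he, hr⟩ := exists_subfield_pow hne
  set r := p ^ d
  have h2 : 2 ≤ r := le_trans (Fact.out : p.Prime).two_le (Nat.le_self_pow (by omega) p)
  have h1 : (a : F) ^ (3 * (r - 1)) = 1 := by
    refine mul_right_cancel₀ (pow_ne_zero 3 a.ne_zero) ?_
    rw [← pow_add, one_mul, show 3 * (r - 1) + 3 = 3 * r by omega, pow_mul, he]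
  have hord : orderOf (a : F) = Fintype.card F - 1 := by
    rw [orderOf_units, orderOf_eq_card_of_forall_mem_zpowers ha, Nat.card_units, Nat.card_eq_fintype_card]
  have := Nat.le_of_dvd (by omega) (hord ▸ orderOf_dvd_of_pow_eq_one h1)
  rcases (show r = 2 ∨ 3 ≤ r by omega) with e | e
  · rw [e] at this hr
    obtain ⟨m, hm⟩ : ∃ m, Fintype.card F = p ^ m := ⟨_, by
      rw [Module.card_eq_pow_finrank (K := ZMod p) (V := F), ZMod.card]⟩
    have hp2 : p = 2 := by
      have := Nat.le_self_pow (show d ≠ 0 by omega) p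
      have := (Fact.out : p.Prime).two_le
      omega
    rw [hm, hp2] at this hr h4
    rcases (show m = 0 ∨ m = 1 ∨ m = 2 ∨ 3 ≤ m by omega) with rfl | rfl | rfl | hm3 <;> try simp at *
    have := Nat.pow_le_pow_right (show 2 > 0 by norm_num) hm3
    omega
  · obtain ⟨u, hu⟩ : ∃ u, r = u + 3 := ⟨r - 3, by omega⟩
    rw [hu] at this hr
    have e' : (u + 3) * (u + 3) = u * u + 6 * u + 9 := by ring
    rw [e'] at hr
    omega

/-- Two elements generate `SL₂`. -/
theorem exists_pair {a : Fˣ} (ha : ∀ x : Fˣ, x ∈ Subgroup.zpowers a) :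
    ∃ g₁ g₂ : SpecialLinearGroup (Fin 2) F, Subgroup.closure ({g₁, g₂} : Set _) = ⊤ := by
  obtain ⟨p, hchar⟩ := CharP.exists F
  haveI : Fact p.Prime := ⟨CharP.char_is_prime F p⟩
  letI := ZMod.algebra F p
  have hα := adjoin_sq_eq_top (p := p) ha
  by_cases h1 : (a : F) ^ 2 = 1
  · refine ⟨mU 1, mT, eq_top_of_mem (Subgroup.subset_closure (Or.inr rfl)) ?_⟩
    refine forall_of_span hα _ (by rw [mU_zero]; exact one_mem _) (fun x y hx hy => by
      rw [← mU_mul]; exact mul_mem hx hy) (fun x hx => by rwa [h1, one_mul]) (Subgroup.subset_closure (Or.inl rfl))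
  set K := Subgroup.closure ({mH a, mT * mU 1} : Set (SpecialLinearGroup (Fin 2) F))
  refine ⟨mH a, mT * mU 1, ?_⟩
  have hh : mH a ∈ K := Subgroup.subset_closure (Or.inl rfl)
  have hk : mT * mU 1 ∈ K := Subgroup.subset_closure (Or.inr rfl)
  set γ : F := (a : F) ^ 2 - 1
  have hγ : γ ≠ 0 := sub_ne_zero.mpr h1
  have h0 : mL γ ∈ K := by
    have e : mT * mU 1 * mH a * (mT * mU 1)⁻¹ * mH a = mL γ := by
      have e1 : mU 1 * mH a * (mU 1)⁻¹ = mU (1 - (a : F) ^ 2) * mH a := by
        rw [mul_inv_eq_iff_eq_mul, mul_assoc,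
          show mH a * mU (1 : F) = mU ((a : F) ^ 2) * mH a by
            have h := mul_inv_eq_iff_eq_mul.mp (mH_conj a (1 : F))
            rwa [mul_one] at h,
          ← mul_assoc, mU_mul, sub_add_cancel]
      calc mT * mU 1 * mH a * (mT * mU 1)⁻¹ * mH a = mT * (mU 1 * mH a * (mU 1)⁻¹) * mT⁻¹ * mH a := by group
        _ = (mT * mU (1 - (a : F) ^ 2) * mT⁻¹) * (mT * mH a * mT⁻¹) * mH a := by rw [e1]; group
        _ = _ := by rw [mT_conj_mU, mT_conj, inv_mul_cancel_right, neg_sub]
    rw [← e]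
    exact mul_mem (mul_mem (mul_mem hk hh) (inv_mem hk)) hh
  have hL : ∀ x, mL x ∈ K := by
    have h := forall_of_span hα (fun x => mL (γ * x) ∈ K) (by rw [mul_zero, mL_zero]; exact one_mem _)
      (fun x y hx hy => by rw [mul_add, ← mL_mul]; exact mul_mem hx hy) (fun x hx => by
        have e : mL (γ * ((a : F) ^ 2 * x)) = (mH a)⁻¹ * mL (γ * x) * mH a := by
          have := mH_conj_mL a (γ * ((a : F) ^ 2 * x))
          rw [show ((a⁻¹ : Fˣ) : F) ^ 2 * (γ * ((a : F) ^ 2 * x)) = γ * x by simp; field_simp] at this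
          rw [← this]; group
        rw [e]
        exact mul_mem (mul_mem (inv_mem hh) hx) hh) (by rwa [mul_one])
    intro x
    have := h (x / γ)
    rwa [mul_div_cancel₀ x hγ] at this
  have hU : ∀ x, mU x ∈ K := fun x => by
    have e : mU x = (mT * mU 1)⁻¹ * mL (-x) * (mT * mU 1) := by
      rw [← mT_conj_mU,
        show (mT * mU 1)⁻¹ * (mT * mU x * mT⁻¹) * (mT * mU 1) = (mU 1)⁻¹ * (mU x * mU 1) by group, mU_mul,
        eq_inv_mul_iff_mul_eq, mU_mul, add_comm]
    rw [e]
    exact mul_mem (mul_mem (inv_mem hk) (hL _)) hk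
  refine eq_top_of_mem ?_ hU
  have := mul_mem (mul_mem (hU 1) (hL (-1))) (hU 1)
  rwa [← mT_eq] at this

/-- The generators. -/
def gens3 (a : Fˣ) : Fin 4 → SpecialLinearGroup (Fin 3) F := ![eM (mU 1), eM (mH a), eM mT, mW]

omit [Fintype F] in
theorem gens3_castSucc (a : Fˣ) (i : Fin 3) : gens3 a i.castSucc = eM (gens a i) := by
  fin_cases i <;> rfl

theorem gens3_top {a : Fˣ} (ha : ∀ x : Fˣ, x ∈ Subgroup.zpowers a) : Subgroup.closure (Set.range (gens3 a)) = ⊤ := by
  obtain ⟨p, hchar⟩ := CharP.exists F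
  haveI : Fact p.Prime := ⟨CharP.char_is_prime F p⟩
  letI := ZMod.algebra F p
  refine LinearGroup.eq_top_of_transvection_mem fun i j hij c => ?_
  have hE : ∀ M, eM M ∈ Subgroup.closure (Set.range (gens3 a)) := fun M => by
    have : Subgroup.closure (Set.range (gens a)) ≤ (Subgroup.closure (Set.range (gens3 a))).comap eM := by
      rw [Subgroup.closure_le]
      rintro _ ⟨i, rfl⟩
      exact Subgroup.subset_closure ⟨i.castSucc, gens3_castSucc a i⟩
    rw [gens_top (adjoin_sq_eq_top (p := p) ha)] at this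
    exact this (Subgroup.mem_top M)
  have hw : mW ∈ Subgroup.closure (Set.range (gens3 a)) := Subgroup.subset_closure ⟨3, rfl⟩
  rw [← model_x a hij]
  simp only [Sys3.x, Sys3.wp, model]
  split_ifs <;> exact mul_mem (mul_mem (pow_mem hw _) (hE _)) (inv_mem (pow_mem hw _))

/-- The relations: thirteen and the cube of the rotation. -/
theorem exists_list_SL3 {a : Fˣ} (ha : ∀ x : Fˣ, x ∈ Subgroup.zpowers a) :
    ∃ L : List (FreeGroup (Fin 4)), L.length ≤ 13 ∧
      (∀ w ∈ FreeGroup.of 3 ^ 3 :: L, FreeGroup.lift (gens3 a) w = 1) ∧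
      ∀ (H : Type) [Group H] (U : Fin 4 → H) (φ : H →* SpecialLinearGroup (Fin 3) F),
        Subgroup.closure (Set.range U) = ⊤ → (∀ w ∈ FreeGroup.of 3 ^ 3 :: L, FreeGroup.lift U w = 1) →
        (∀ i, φ (U i) = gens3 a i) → ∀ x, φ x = 1 → x = 1 := by
  obtain ⟨p, hchar⟩ := CharP.exists F
  haveI : Fact p.Prime := ⟨CharP.char_is_prime F p⟩
  letI := ZMod.algebra F p
  have h2 : PresOn (gens a) 7 := by
    by_cases hp : p = 2
    · subst hp; exact (presOn_two (p := 2) ha rfl).mono (by norm_num)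
    · exact presOn_odd (p := p) ha hp
  obtain ⟨L, hL, hLrel, hLtop, hLhom⟩ := h2.exists_hom
  obtain ⟨g₁, g₂, hg⟩ := exists_pair ha
  have hwd : ∀ M : SpecialLinearGroup (Fin 2) F, ∃ W : FreeGroup (Fin 3), FreeGroup.lift (gens a) W = M := fun M => by
    rw [← MonoidHom.mem_range, FreeGroup.range_lift_eq_closure, hLtop]; trivial
  choose W hW using hwd
  let c : FreeGroup (Fin 3) →* FreeGroup (Fin 4) := FreeGroup.map Fin.castSucc
  let v : FreeGroup (Fin 4) := FreeGroup.of 3
  let d : FreeGroup (Fin 4) := v * c (W (mH a)) * v⁻¹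
  let y01 : F → FreeGroup (Fin 4) := fun t => c (W (mU t))
  let y12 : F → FreeGroup (Fin 4) := fun t => v * c (W (mU t)) * v⁻¹
  let y02 : F → FreeGroup (Fin 4) := fun t => v ^ 2 * c (W (mL t)) * (v ^ 2)⁻¹
  let rA : FreeGroup (Fin 4) := y01 1 * y02 1 * (y02 1 * y01 1)⁻¹
  let rB : FreeGroup (Fin 4) := y02 1 * y12 1 * (y12 1 * y02 1)⁻¹
  let rC : F → FreeGroup (Fin 4) := fun t => y01 1 * y12 t * (y02 t * y12 t * y01 1)⁻¹
  let E : List (FreeGroup (Fin 4)) := if Fintype.card F = 4 then [rC 1, rC (a : F)] else [rA, rB, rC 1]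
  let T : SpecialLinearGroup (Fin 2) F → FreeGroup (Fin 4) := fun M => d * c (W M) * d⁻¹ * (c (W (adD a M)))⁻¹
  let rest := L.map c ++ [T g₁, T g₂, c (W mT) * v ^ 2 * c (W mT) * v⁻¹] ++ E
  let rels := v ^ 3 :: rest
  have hlen : rest.length ≤ 13 := by
    simp only [rest, List.length_append, List.length_map, List.length_cons, List.length_nil, E]
    split_ifs <;> simp <;> omega
  have hc0 : ∀ w, FreeGroup.lift (gens3 a) (c w) = eM (FreeGroup.lift (gens a) w) := fun w => by
    rw [← MonoidHom.comp_apply, ← MonoidHom.comp_apply]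
    exact DFunLike.congr_fun (FreeGroup.ext_hom _ _ fun i => by simp [c, gens3_castSucc]) w
  have hv0 : FreeGroup.lift (gens3 a) v = (model a).w := by simp [v, gens3, model]
  refine ⟨rest, hlen, ?_, ?_⟩
  · show ∀ w ∈ rels, FreeGroup.lift (gens3 a) w = 1
    have e01 : ∀ t, FreeGroup.lift (gens3 a) (y01 t) = (model a).x 0 1 t := fun t => by
      simp only [y01, hc0, hW, Sys3.x01]; rfl
    have e12 : ∀ t, FreeGroup.lift (gens3 a) (y12 t) = (model a).x 1 2 t := fun t => by
      simp only [y12, map_mul, map_inv, hv0, hc0, hW, Sys3.x12]; rfl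
    have e02 : ∀ t, FreeGroup.lift (gens3 a) (y02 t) = (model a).x 0 2 t := fun t => by
      simp only [y02, map_mul, map_inv, map_pow, hv0, hc0, hW, Sys3.x02]; rfl
    have hC' : ∀ t, FreeGroup.lift (gens3 a) (rC t) = 1 := fun t => by
      simp only [rC, map_mul, map_inv, e01, e12, e02, mul_inv_eq_one]
      have := (model_rels a 1 t).2.2
      rwa [Sys3.RC, one_mul] at this
    intro w hw
    simp only [rels, rest, List.mem_append, List.mem_map, List.mem_cons, List.not_mem_nil, or_false] at hw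
    rcases hw with rfl | (⟨w, hw, rfl⟩ | rfl | rfl | rfl) | hw
    · rw [map_pow, hv0]; exact (model a).cube
    · rw [hc0, hLrel w hw, map_one]
    · simp only [T, d, map_mul, map_inv, hv0, hc0, hW, mul_inv_eq_one]; exact (model a).torus g₁
    · simp only [T, d, map_mul, map_inv, hv0, hc0, hW, mul_inv_eq_one]; exact (model a).torus g₂
    · simp only [map_mul, map_inv, map_pow, hv0, hc0, hW, mul_inv_eq_one]; exact (model a).weyl
    · simp only [E] at hw
      split_ifs at hw <;> simp only [List.mem_cons, List.not_mem_nil, or_false] at hw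
      · rcases hw with rfl | rfl <;> exact hC' _
      · rcases hw with rfl | rfl | rfl
        · simp only [rA, map_mul, map_inv, e01, e02, mul_inv_eq_one]; exact (model_rels a 1 1).1
        · simp only [rB, map_mul, map_inv, e12, e02, mul_inv_eq_one]; exact (model_rels a 1 1).2.1
        · exact hC' _
  intro H _ U φ hU hr hφ x hx
  have hc1 : ∀ w, FreeGroup.lift U (c w) = FreeGroup.lift (fun i => U (Fin.castSucc i)) w := fun w => by
    rw [← MonoidHom.comp_apply]
    exact DFunLike.congr_fun (FreeGroup.ext_hom _ _ fun i => by simp [c]) w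
  obtain ⟨ι, hι⟩ := hLhom H (fun i => U (Fin.castSucc i)) fun w hw => by
    rw [← hc1]; exact hr _ (List.mem_cons_of_mem _ (List.mem_append_left _ (List.mem_append_left _ (List.mem_map_of_mem hw))))
  have hcW : ∀ M, FreeGroup.lift U (c (W M)) = ι M := fun M => by
    conv_rhs => rw [← hW M]
    rw [hc1, ← MonoidHom.comp_apply ι]
    exact DFunLike.congr_fun (FreeGroup.ext_hom _ _ fun i => by simp [hι]) (W M)
  have hv1 : FreeGroup.lift U v = U 3 := by simp [v]
  have htor : ∀ M, U 3 * ι (mH a) * (U 3)⁻¹ * ι M * (U 3 * ι (mH a) * (U 3)⁻¹)⁻¹ = ι (adD a M) := by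
    let f := (MulAut.conj (U 3 * ι (mH a) * (U 3)⁻¹)).toMonoidHom.comp ι
    have : f = ι.comp (adD a) := MonoidHom.eq_of_eqOn_dense hg fun g hg' => by
      have hT : FreeGroup.lift U (T g) = 1 := by
        rcases hg' with rfl | rfl <;> exact hr _ (List.mem_cons_of_mem _ (by simp [rest]))
      simp only [T, d, map_mul, map_inv, hv1, hcW, mul_inv_eq_one] at hT
      show U 3 * ι (mH a) * (U 3)⁻¹ * ι g * (U 3 * ι (mH a) * (U 3)⁻¹)⁻¹ = ι (adD a g)
      exact hT
    exact fun M => DFunLike.congr_fun this M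
  let S : Sys3 a H :=
    { ι := ι
      w := U 3
      cube := by have := hr (v ^ 3) List.mem_cons_self; rwa [map_pow, hv1] at this
      torus := htor
      weyl := by
        have := hr (c (W mT) * v ^ 2 * c (W mT) * v⁻¹) (List.mem_cons_of_mem _ (by simp [rest]))
        simpa only [map_mul, map_inv, map_pow, hv1, hcW, mul_inv_eq_one] using this }
  have hE : ∀ w ∈ E, FreeGroup.lift U w = 1 := fun w hw => hr w (List.mem_cons_of_mem _ (List.mem_append_right _ hw))
  have e01 : ∀ t, FreeGroup.lift U (y01 t) = S.x 0 1 t := fun t => by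
    simp only [y01, hcW, Sys3.x01]; rfl
  have e12 : ∀ t, FreeGroup.lift U (y12 t) = S.x 1 2 t := fun t => by
    simp only [y12, map_mul, map_inv, hv1, hcW, Sys3.x12]; rfl
  have e02 : ∀ t, FreeGroup.lift U (y02 t) = S.x 0 2 t := fun t => by
    simp only [y02, map_mul, map_inv, map_pow, hv1, hcW, Sys3.x02]; rfl
  have hC' : ∀ t, rC t ∈ E → S.RC 1 t := fun t ht => by
    have := hE _ ht
    simp only [rC, map_mul, map_inv, e01, e12, e02, mul_inv_eq_one] at this
    rwa [Sys3.RC, one_mul]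
  obtain ⟨hA, hB, hC⟩ : (∀ s t, S.RA s t) ∧ (∀ s t, S.RB s t) ∧ ∀ s t, S.RC s t := by
    by_cases h4 : Fintype.card F = 4
    · haveI : CharP F 2 := by
        have : p = 2 := by
          obtain ⟨m, -, h⟩ := FiniteField.card F p
          rw [h4] at h
          have hd : p ∣ 2 * 2 := by
            rw [show 2 * 2 = 4 by rfl, h]; exact dvd_pow_self p (PNat.ne_zero _)
          rcases (Fact.out : p.Prime).dvd_mul.mp hd with h' | h' <;>
            exact (Nat.prime_dvd_prime_iff_eq Fact.out Nat.prime_two).mp h'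
        exact this ▸ hchar
      exact S.extend_four ha h4 (hC' 1 (by simp [E, h4])) (hC' _ (by simp [E, h4]))
    · refine S.extend (adjoin_cube_eq_top (p := p) ha h4) ?_ ?_ (hC' 1 (by simp [E, h4]))
      · have := hE rA (by simp [E, h4])
        simp only [rA, map_mul, map_inv, e01, e02, mul_inv_eq_one] at this; exact this
      · have := hE rB (by simp [E, h4])
        simp only [rB, map_mul, map_inv, e12, e02, mul_inv_eq_one] at this; exact this
  obtain ⟨R, hR⟩ := S.exists_rootSys ha hA hB hC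
  have hφι : ∀ M, φ (ι M) = eM M := fun M => by
    rw [← hcW M, show φ (FreeGroup.lift U (c (W M))) = FreeGroup.lift (gens3 a) (c (W M)) from
      DFunLike.congr_fun (FreeGroup.ext_hom (φ.comp (FreeGroup.lift U)) _ fun i => by simp [hφ]) _, hc0, hW]
  have hmap : RootMap R φ := fun i j hij t => by
    rw [hR, ← model_x a hij]
    simp only [Sys3.x, Sys3.wp]
    split_ifs <;> simp [S, model, hφι, hφ, gens3]
  set N := rootGroup R (Finset.univ : Finset (Fin 3))
  have hN : ∀ i j, i ≠ j → ∀ t, S.x i j t ∈ N := fun i j h t => by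
    rw [← hR]; exact mem_rootGroup (Finset.mem_univ i) (Finset.mem_univ j) h t
  have hsub : ∀ f : SpecialLinearGroup (Fin 2) F →* H, (∀ t, f (mU t) ∈ N) → (∀ t, f (mL t) ∈ N) → ∀ M, f M ∈ N := by
    intro f hu hl M
    have hT : mT ∈ N.comap f := by
      rw [Subgroup.mem_comap, mT_eq, map_mul, map_mul]; exact mul_mem (mul_mem (hu _) (hl _)) (hu _)
    exact (Subgroup.eq_top_iff' _).mp (eq_top_of_mem (H := N.comap f) hT hu) M
  have hιN : ∀ M, ι M ∈ N := hsub ι (fun t => S.x01 t ▸ hN 0 1 (by decide) t) (fun t => S.x10 t ▸ hN 1 0 (by decide) t)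
  have hwN : U 3 ∈ N := by
    have e : U 3 = (ι mT)⁻¹ * (U 3 * (ι mT)⁻¹ * (U 3)⁻¹) := by
      have h : ι mT * U 3 ^ 2 * ι mT = U 3 := S.weyl
      calc U 3 = (U 3 ^ 2) * (U 3)⁻¹ := by group
        _ = ((ι mT)⁻¹ * (ι mT * U 3 ^ 2 * ι mT) * (ι mT)⁻¹) * (U 3)⁻¹ := by group
        _ = _ := by rw [h]; group
    rw [e]
    refine mul_mem (inv_mem (hιN _)) ?_
    have := hsub ((MulAut.conj (U 3)).toMonoidHom.comp ι) (fun t => ?_) (fun t => ?_) mT⁻¹
    · simpa using this
    · simpa [S.x12] using hN 1 2 (by decide) t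
    · simpa [S.x21] using hN 2 1 (by decide) t
  have htop : x ∈ N := by
    have : Subgroup.closure (Set.range U) ≤ N := by
      rw [Subgroup.closure_le]
      rintro _ ⟨i, rfl⟩
      induction i using Fin.lastCases with
      | last => exact hwN
      | cast i => show U i.castSucc ∈ N; rw [← hι i]; exact hιN _
    rw [hU] at this
    exact this (Subgroup.mem_top x)
  exact rootGroup_inj hmap _ x htop hx

/-- Fourteen relations. -/
theorem presOn_SL3 {a : Fˣ} (ha : ∀ x : Fˣ, x ∈ Subgroup.zpowers a) : PresOn (gens3 a) 14 := by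
  obtain ⟨L, hL, h1, h2⟩ := exists_list_SL3 ha
  exact presOn_of_inj _ _ (by simp; omega) h1 (gens3_top ha) h2

end Cfsg.Agent.KSG55.Lin
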