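import Cfsg.Agent.KSG55.Lin.RootInj
import Cfsg.Agent.KSG55.Lin.FieldChoice

set_option autoImplicit false

/-! The cyclic root data of `SL₃`. -/

namespace Cfsg.Agent.KSG55.Lin

open Matrix

variable {F : Type*} [Field F] {a : Fˣ}

/-- Conjugation by `diag (1, a)`. -/
def adDFun (a : Fˣ) (M : SpecialLinearGroup (Fin 2) F) : SpecialLinearGroup (Fin 2) F :=
  ⟨!![M.1 0 0, M.1 0 1 * ((a⁻¹ : Fˣ) : F); M.1 1 0 * (a : F), M.1 1 1], by
    have h := M.2
    rw [Matrix.det_fin_two] at h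
    simp only [Matrix.det_fin_two_of]
    simp [mul_assoc, mul_comm, mul_left_comm] at h ⊢
    exact h⟩

theorem adDFun_coe (a : Fˣ) (M : SpecialLinearGroup (Fin 2) F) : (adDFun a M : Matrix (Fin 2) (Fin 2) F) =
    !![M.1 0 0, M.1 0 1 * ((a⁻¹ : Fˣ) : F); M.1 1 0 * (a : F), M.1 1 1] := rfl

/-- The same, as a homomorphism. -/
def adD (a : Fˣ) : SpecialLinearGroup (Fin 2) F →* SpecialLinearGroup (Fin 2) F where
  toFun := adDFun a
  map_one' := by
    apply Subtype.ext; ext i j; fin_cases i <;> fin_cases j <;> simp [adDFun_coe]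
  map_mul' M N := by
    apply Subtype.ext; ext i j
    fin_cases i <;> fin_cases j <;> simp [adDFun_coe, Matrix.mul_apply, Fin.sum_univ_two] <;> field_simp

@[simp] theorem adD_coe (a : Fˣ) (M : SpecialLinearGroup (Fin 2) F) : (adD a M : Matrix (Fin 2) (Fin 2) F) =
    !![M.1 0 0, M.1 0 1 * ((a⁻¹ : Fˣ) : F); M.1 1 0 * (a : F), M.1 1 1] := rfl

/-- Reversing the two indices. -/
def swap2Fun (M : SpecialLinearGroup (Fin 2) F) : SpecialLinearGroup (Fin 2) F :=
  ⟨!![M.1 1 1, M.1 1 0; M.1 0 1, M.1 0 0], by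
    have h := M.2
    rw [Matrix.det_fin_two] at h
    simp only [Matrix.det_fin_two_of]
    linear_combination h⟩

theorem swap2Fun_coe (M : SpecialLinearGroup (Fin 2) F) : (swap2Fun M : Matrix (Fin 2) (Fin 2) F) =
    !![M.1 1 1, M.1 1 0; M.1 0 1, M.1 0 0] := rfl

/-- The same, as a homomorphism. -/
def swap2 : SpecialLinearGroup (Fin 2) F →* SpecialLinearGroup (Fin 2) F where
  toFun := swap2Fun
  map_one' := by
    apply Subtype.ext; ext i j; fin_cases i <;> fin_cases j <;> simp [swap2Fun_coe]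
  map_mul' M N := by
    apply Subtype.ext; ext i j
    fin_cases i <;> fin_cases j <;> simp [swap2Fun_coe, Matrix.mul_apply, Fin.sum_univ_two] <;> ring

@[simp] theorem swap2_coe (M : SpecialLinearGroup (Fin 2) F) : (swap2 M : Matrix (Fin 2) (Fin 2) F) =
    !![M.1 1 1, M.1 1 0; M.1 0 1, M.1 0 0] := rfl

theorem swap2_mU (x : F) : swap2 (mU x) = mL x := by
  apply Subtype.ext; simp

theorem swap2_mL (x : F) : swap2 (mL x) = mU x := by
  apply Subtype.ext; simp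

theorem adD_mU (a : Fˣ) (x : F) : adD a (mU x) = mU (((a⁻¹ : Fˣ) : F) * x) := by
  apply Subtype.ext; simp [mul_comm]

theorem adD_mL (a : Fˣ) (x : F) : adD a (mL x) = mL ((a : F) * x) := by
  apply Subtype.ext; simp [mul_comm]

theorem adD_mT (a : Fˣ) : adD a mT = mT * mH a := by
  apply Subtype.ext; simp

theorem mT_conj_mU (x : F) : mT * mU x * mT⁻¹ = mL (-x) := by
  rw [mul_inv_eq_iff_eq_mul]; apply Subtype.ext; simp

theorem mT_conj_mL (x : F) : mT * mL x * mT⁻¹ = mU (-x) := by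
  rw [mul_inv_eq_iff_eq_mul]; apply Subtype.ext; simp

theorem mH_conj_mL (d : Fˣ) (x : F) : mH d * mL x * (mH d)⁻¹ = mL (((d⁻¹ : Fˣ) : F) ^ 2 * x) := by
  rw [mul_inv_eq_iff_eq_mul]; apply Subtype.ext; simp; field_simp

theorem mL_mul (x y : F) : mL x * mL y = mL (x + y) := by
  apply Subtype.ext; simp

theorem mL_zero : mL (0 : F) = 1 := by
  apply Subtype.ext; simp [Matrix.one_fin_two]

/-- An additive property containing one orbit. -/
theorem forall_of_span {p : ℕ} [Fact p.Prime] [Algebra (ZMod p) F] [Fintype F] {c : F}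
    (hc : Algebra.adjoin (ZMod p) {c} = ⊤) (P : F → Prop) (h0 : P 0) (hadd : ∀ x y, P x → P y → P (x + y))
    (hs : ∀ x, P x → P (c * x)) (h1 : P 1) : ∀ x, P x := by
  have hn : ∀ (k : ℕ) x, P x → P ((k : F) * x) := fun k x hx => by
    induction k with
    | zero => simpa using h0
    | succ k ih => rw [Nat.cast_succ, add_mul, one_mul]; exact hadd _ _ ih hx
  have hpow : ∀ k : ℕ, P (c ^ k) := fun k => by
    induction k with
    | zero => simpa using h1
    | succ k ih => rw [pow_succ']; exact hs _ ih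
  intro x
  obtain ⟨Q, rfl⟩ := exists_aeval hc x
  induction Q using Polynomial.induction_on' with
  | add q r hq hr => rw [map_add]; exact hadd _ _ hq hr
  | monomial n k =>
    rw [Polynomial.aeval_monomial, ← ZMod.natCast_zmod_val k, map_natCast]
    exact hn _ _ (hpow n)

/-- The cyclic data. -/
structure Sys3 (a : Fˣ) (G : Type*) [Group G] where
  ι : SpecialLinearGroup (Fin 2) F →* G
  w : G
  cube : w ^ 3 = 1
  torus : ∀ M, w * ι (mH a) * w⁻¹ * ι M * (w * ι (mH a) * w⁻¹)⁻¹ = ι (adD a M)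
  weyl : ι mT * w ^ 2 * ι mT = w

namespace Sys3

variable {G : Type*} [Group G] (S : Sys3 a G)

/-- Powers of the rotation. -/
def wp (i : Fin 3) : G := S.w ^ (i : ℕ)

theorem wp_add (i j : Fin 3) : S.wp (i + j) = S.wp i * S.wp j := by
  rw [wp, wp, wp, ← pow_add, Fin.val_add]
  exact (pow_eq_pow_mod _ S.cube).symm

theorem wp_zero : S.wp 0 = 1 := by simp [wp]
theorem wp_one : S.wp 1 = S.w := by simp [wp]
theorem wp_two : S.wp 2 = S.w ^ 2 := rfl

/-- The root elements. -/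
def x (i j : Fin 3) (t : F) : G :=
  if j = i + 1 then S.wp i * S.ι (mU t) * (S.wp i)⁻¹ else S.wp j * S.ι (mL t) * (S.wp j)⁻¹

theorem x01 (t : F) : S.x 0 1 t = S.ι (mU t) := by simp [x, wp_zero]
theorem x10 (t : F) : S.x 1 0 t = S.ι (mL t) := by simp [x, wp_zero]
theorem x12 (t : F) : S.x 1 2 t = S.w * S.ι (mU t) * S.w⁻¹ := by simp [x, wp_one]
theorem x21 (t : F) : S.x 2 1 t = S.w * S.ι (mL t) * S.w⁻¹ := by simp [x, wp_one]
theorem x02 (t : F) : S.x 0 2 t = S.w ^ 2 * S.ι (mL t) * (S.w ^ 2)⁻¹ := by simp [x, wp_two]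
theorem x20 (t : F) : S.x 2 0 t = S.w ^ 2 * S.ι (mU t) * (S.w ^ 2)⁻¹ := by simp [x, wp_two]

theorem rot (k i j : Fin 3) (t : F) : S.wp k * S.x i j t * (S.wp k)⁻¹ = S.x (i + k) (j + k) t := by
  have hk : ∀ l g, S.wp k * (S.wp l * g * (S.wp l)⁻¹) * (S.wp k)⁻¹ = S.wp (l + k) * g * (S.wp (l + k))⁻¹ :=
    fun l g => by rw [add_comm l k, S.wp_add]; group
  have : j + k = i + k + 1 ↔ j = i + 1 := by
    rw [add_right_comm]; exact add_left_inj k
  simp only [x, this]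
  split_ifs <;> exact hk _ _

theorem x_add (i j : Fin 3) (s t : F) : S.x i j (s + t) = S.x i j s * S.x i j t := by
  simp only [x]
  split_ifs <;> simp only [← mU_mul, ← mL_mul, map_mul] <;> group

theorem x_zero (i j : Fin 3) : S.x i j 0 = 1 := by
  simp [x, mU_zero, mL_zero]

theorem x_neg (i j : Fin 3) (t : F) : S.x i j (-t) = (S.x i j t)⁻¹ :=
  eq_inv_of_mul_eq_one_left (by rw [← S.x_add, neg_add_cancel, S.x_zero])

/-- The torus generators. -/
def hh (i : Fin 3) : G := S.wp i * S.ι (mH a) * (S.wp i)⁻¹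

theorem hh_rot (k i : Fin 3) : S.wp k * S.hh i * (S.wp k)⁻¹ = S.hh (i + k) := by
  rw [hh, hh, add_comm i k, S.wp_add]; group

theorem hh_two : S.hh 2 = (S.hh 1)⁻¹ * (S.hh 0)⁻¹ := by
  have e1 : (S.ι mT)⁻¹ * S.w = S.w ^ 2 * S.ι mT :=
    calc (S.ι mT)⁻¹ * S.w = (S.ι mT)⁻¹ * (S.ι mT * S.w ^ 2 * S.ι mT) := by rw [S.weyl]
      _ = _ := by group
  have e2 : (S.ι mT)⁻¹ * S.hh 1 * S.ι mT = (S.hh 2)⁻¹ := by
    have hT : S.ι mT * S.ι (mH a) * (S.ι mT)⁻¹ = (S.ι (mH a))⁻¹ := by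
      rw [← map_inv, ← map_mul, ← map_mul, mT_conj, map_inv]
    rw [hh, hh, wp_one, wp_two]
    calc (S.ι mT)⁻¹ * (S.w * S.ι (mH a) * S.w⁻¹) * S.ι mT
        = ((S.ι mT)⁻¹ * S.w) * S.ι (mH a) * ((S.ι mT)⁻¹ * S.w)⁻¹ := by group
      _ = S.w ^ 2 * (S.ι mT * S.ι (mH a) * (S.ι mT)⁻¹) * (S.w ^ 2)⁻¹ := by rw [e1]; group
      _ = _ := by rw [hT]; group
  have e3 : (S.ι mT)⁻¹ * S.hh 1 * S.ι mT = S.hh 0 * S.hh 1 := by
    have h := S.torus mT
    rw [adD_mT, map_mul] at h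
    rw [hh, hh, wp_zero, wp_one]
    calc (S.ι mT)⁻¹ * (S.w * S.ι (mH a) * S.w⁻¹) * S.ι mT
        = (S.ι mT)⁻¹ * (S.w * S.ι (mH a) * S.w⁻¹ * S.ι mT * (S.w * S.ι (mH a) * S.w⁻¹)⁻¹) *
          (S.w * S.ι (mH a) * S.w⁻¹) := by group
      _ = _ := by rw [h]; group
  rw [e2] at e3
  rw [← inv_inv (S.hh 2), e3]
  exact _root_.mul_inv_rev _ _

/-- `g` acts on the root elements as `diag e`. -/
def Scales (g : G) (e : Fin 3 → Fˣ) : Prop :=
  ∀ k l, k ≠ l → ∀ t, g * S.x k l t * g⁻¹ = S.x k l ((e k : F) * ((e l)⁻¹ : Fˣ) * t)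

theorem Scales.mul {S : Sys3 a G} {g g' : G} {e e' : Fin 3 → Fˣ} (h : S.Scales g e) (h' : S.Scales g' e') :
    S.Scales (g * g') (e * e') := fun k l hkl t => by
  rw [show g * g' * S.x k l t * (g * g')⁻¹ = g * (g' * S.x k l t * g'⁻¹) * g⁻¹ by group, h' k l hkl, h k l hkl]
  congr 1
  simp only [Pi.mul_apply, _root_.mul_inv_rev, Units.val_mul]
  ring

theorem Scales.inv {S : Sys3 a G} {g : G} {e : Fin 3 → Fˣ} (h : S.Scales g e) : S.Scales g⁻¹ e⁻¹ := fun k l hkl t => by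
  have := h k l hkl ((((e⁻¹ : Fin 3 → Fˣ) k : Fˣ) : F) * (((e⁻¹ : Fin 3 → Fˣ) l)⁻¹ : Fˣ) * t)
  rw [show (e k : F) * ((e l)⁻¹ : Fˣ) * ((((e⁻¹ : Fin 3 → Fˣ) k : Fˣ) : F) * (((e⁻¹ : Fin 3 → Fˣ) l)⁻¹ : Fˣ) * t) = t by
    simp; field_simp] at this
  rw [← this]; group

/-- The weights of the torus generators. -/
def χ (a : Fˣ) (i k : Fin 3) : Fˣ := if k = i then a else if k = i + 1 then a⁻¹ else 1

theorem hh_scales (i : Fin 3) : S.Scales (S.hh i) (χ a i) := by
  have h0 : ∀ t, S.hh 0 * S.x 0 1 t * (S.hh 0)⁻¹ = S.x 0 1 ((a : F) ^ 2 * t) ∧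
      S.hh 0 * S.x 1 0 t * (S.hh 0)⁻¹ = S.x 1 0 (((a⁻¹ : Fˣ) : F) ^ 2 * t) := fun t => by
    have : S.hh 0 = S.ι (mH a) := by simp [hh, wp_zero]
    rw [this, S.x01, S.x01, S.x10, S.x10, ← map_inv, ← map_mul, ← map_mul, mH_conj, ← map_mul, ← map_mul,
      mH_conj_mL]
    exact ⟨rfl, rfl⟩
  have h1 : ∀ t, S.hh 1 * S.x 0 1 t * (S.hh 1)⁻¹ = S.x 0 1 (((a⁻¹ : Fˣ) : F) * t) ∧
      S.hh 1 * S.x 1 0 t * (S.hh 1)⁻¹ = S.x 1 0 ((a : F) * t) := fun t => by
    have : S.hh 1 = S.w * S.ι (mH a) * S.w⁻¹ := by simp [hh, wp_one]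
    rw [this, S.x01, S.x01, S.x10, S.x10, S.torus, S.torus, adD_mU, adD_mL]
    exact ⟨rfl, rfl⟩
  have conjinv : ∀ (g : G) (k l : Fin 3) (c d : F), c * d = 1 → (∀ t, g * S.x k l t * g⁻¹ = S.x k l (c * t)) →
      ∀ t, g⁻¹ * S.x k l t * g = S.x k l (d * t) := fun g k l c d hcd h t => by
    have := h (d * t)
    rw [← mul_assoc, hcd, one_mul] at this
    rw [← this]; group
  have h2 : ∀ t, S.hh 2 * S.x 0 1 t * (S.hh 2)⁻¹ = S.x 0 1 (((a⁻¹ : Fˣ) : F) * t) ∧
      S.hh 2 * S.x 1 0 t * (S.hh 2)⁻¹ = S.x 1 0 ((a : F) * t) := fun t => by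
    have e : ∀ g, S.hh 2 * g * (S.hh 2)⁻¹ = (S.hh 1)⁻¹ * ((S.hh 0)⁻¹ * g * S.hh 0) * S.hh 1 := fun g => by
      rw [S.hh_two]; group
    constructor
    · rw [e, conjinv _ 0 1 _ (((a⁻¹ : Fˣ) : F) ^ 2) (by rw [← mul_pow]; simp) (fun t => (h0 t).1),
        conjinv _ 0 1 _ (a : F) (by simp) (fun t => (h1 t).1)]
      congr 1; simp; field_simp
    · rw [e, conjinv _ 1 0 _ ((a : F) ^ 2) (by rw [← mul_pow]; simp) (fun t => (h0 t).2),
        conjinv _ 1 0 _ (((a⁻¹ : Fˣ) : F)) (by simp) (fun t => (h1 t).2)]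
      congr 1; simp; field_simp
  have base : ∀ i t, S.hh i * S.x 0 1 t * (S.hh i)⁻¹ = S.x 0 1 ((χ a i 0 : F) * ((χ a i 1)⁻¹ : Fˣ) * t) ∧
      S.hh i * S.x 1 0 t * (S.hh i)⁻¹ = S.x 1 0 ((χ a i 1 : F) * ((χ a i 0)⁻¹ : Fˣ) * t) := by
    intro i t
    fin_cases i
    · simpa [χ, pow_two, mul_assoc] using h0 t
    · simpa [χ] using h1 t
    · simpa [χ] using h2 t
  intro k l hkl t
  have hkl' : l = k + 1 ∨ k = l + 1 := by revert hkl k l; decide
  have hχ : ∀ i m c : Fin 3, χ a (i - c) m = χ a i (m + c) := fun i m c => by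
    simp only [χ, eq_sub_iff_add_eq, show m = i - c + 1 ↔ m + c = i + 1 by
      rw [show i - c + 1 = i + 1 - c by abel, eq_sub_iff_add_eq]]
  have tr : ∀ (c : Fin 3) (g : G), S.hh i * (S.wp c * g * (S.wp c)⁻¹) * (S.hh i)⁻¹ =
      S.wp c * (S.hh (i - c) * g * (S.hh (i - c))⁻¹) * (S.wp c)⁻¹ := fun c g => by
    have hr := S.hh_rot c (i - c)
    rw [sub_add_cancel] at hr
    rw [← hr]; group
  rcases hkl' with h | h <;> subst h
  · have e : ∀ t, S.x k (k + 1) t = S.wp k * S.x 0 1 t * (S.wp k)⁻¹ := fun t => by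
      rw [S.rot, zero_add, add_comm 1 k]
    rw [e, e, tr, (base _ t).1, hχ, hχ, zero_add, add_comm 1 k]
  · have e : ∀ t, S.x (l + 1) l t = S.wp l * S.x 1 0 t * (S.wp l)⁻¹ := fun t => by
      rw [S.rot, zero_add, add_comm 1 l]
    rw [e, e, tr, (base _ t).2, hχ, hχ, zero_add, add_comm 1 l]

theorem h_pow_scales (m : ℕ) : S.Scales (S.ι (mH a) ^ m) (χ a 0 ^ m) := by
  have h := S.hh_scales 0
  rw [hh, wp_zero, one_mul, inv_one, mul_one] at h
  induction m with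
  | zero => intro k l _ t; simp
  | succ m ih => rw [pow_succ, pow_succ]; exact ih.mul h

/-- Row commutation. -/
abbrev RA (s t : F) : Prop := Commute (S.x 0 1 s) (S.x 0 2 t)
/-- Column commutation. -/
abbrev RB (s t : F) : Prop := Commute (S.x 0 2 s) (S.x 1 2 t)
/-- The commutator rule. -/
abbrev RC (s t : F) : Prop := S.x 0 1 s * S.x 1 2 t = S.x 0 2 (s * t) * S.x 1 2 t * S.x 0 1 s

theorem Scales.commute {S : Sys3 a G} {g : G} {e : Fin 3 → Fˣ} (h : S.Scales g e) {i j k l : Fin 3} (hij : i ≠ j) (hkl : k ≠ l)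
    {s t : F} (hc : Commute (S.x i j s) (S.x k l t)) :
    Commute (S.x i j ((e i : F) * ((e j)⁻¹ : Fˣ) * s)) (S.x k l ((e k : F) * ((e l)⁻¹ : Fˣ) * t)) := by
  rw [← h i j hij, ← h k l hkl]
  exact (Commute.conj_iff _).mpr hc

theorem Scales.rc {S : Sys3 a G} {g : G} {e : Fin 3 → Fˣ} (h : S.Scales g e) {s t : F} (hc : S.RC s t) :
    S.RC ((e 0 : F) * ((e 1)⁻¹ : Fˣ) * s) ((e 1 : F) * ((e 2)⁻¹ : Fˣ) * t) := by
  have e' : (e 0 : F) * ((e 1)⁻¹ : Fˣ) * s * ((e 1 : F) * ((e 2)⁻¹ : Fˣ) * t) =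
      (e 0 : F) * ((e 2)⁻¹ : Fˣ) * (s * t) := by
    simp; field_simp
  rw [RC, e', ← h 0 1 (by decide), ← h 1 2 (by decide), ← h 0 2 (by decide)]
  calc g * S.x 0 1 s * g⁻¹ * (g * S.x 1 2 t * g⁻¹) = g * (S.x 0 1 s * S.x 1 2 t) * g⁻¹ := by group
    _ = g * (S.x 0 2 (s * t) * S.x 1 2 t * S.x 0 1 s) * g⁻¹ := by rw [show S.x 0 1 s * S.x 1 2 t = _ from hc]
    _ = _ := by group

theorem rc_addr (hB : ∀ s t, S.RB s t) {s t t' : F} (h : S.RC s t) (h' : S.RC s t') : S.RC s (t + t') := by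
  rw [RC, mul_add, S.x_add, S.x_add]
  calc S.x 0 1 s * (S.x 1 2 t * S.x 1 2 t') = (S.x 0 1 s * S.x 1 2 t) * S.x 1 2 t' := by group
    _ = S.x 0 2 (s * t) * S.x 1 2 t * (S.x 0 1 s * S.x 1 2 t') := by rw [show S.x 0 1 s * S.x 1 2 t = _ from h]; group
    _ = S.x 0 2 (s * t) * (S.x 1 2 t * S.x 0 2 (s * t')) * S.x 1 2 t' * S.x 0 1 s := by
      rw [show S.x 0 1 s * S.x 1 2 t' = _ from h']; group
    _ = _ := by rw [← (hB (s * t') t).eq]; group

theorem rc_addl (hA : ∀ s t, S.RA s t) {s s' t : F} (h : S.RC s t) (h' : S.RC s' t) : S.RC (s + s') t := by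
  rw [RC, add_comm s s', add_mul, S.x_add, add_comm (s' * t), S.x_add]
  calc S.x 0 1 s' * S.x 0 1 s * S.x 1 2 t = S.x 0 1 s' * (S.x 0 1 s * S.x 1 2 t) := by group
    _ = (S.x 0 1 s' * S.x 0 2 (s * t)) * S.x 1 2 t * S.x 0 1 s := by rw [show S.x 0 1 s * S.x 1 2 t = _ from h]; group
    _ = S.x 0 2 (s * t) * (S.x 0 1 s' * S.x 1 2 t) * S.x 0 1 s := by rw [(hA s' (s * t)).eq]; group
    _ = (S.x 0 2 (s * t) * S.x 0 2 (s' * t)) * S.x 1 2 t * S.x 0 1 s' * S.x 0 1 s := by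
      rw [show S.x 0 1 s' * S.x 1 2 t = _ from h']; group
    _ = _ := by group

theorem ra_addl {s s' t : F} (h : S.RA s t) (h' : S.RA s' t) : S.RA (s + s') t := by
  rw [RA, S.x_add]; exact h.mul_left h'
theorem ra_addr {s t t' : F} (h : S.RA s t) (h' : S.RA s t') : S.RA s (t + t') := by
  rw [RA, S.x_add]; exact h.mul_right h'
theorem rb_addl {s s' t : F} (h : S.RB s t) (h' : S.RB s' t) : S.RB (s + s') t := by
  rw [RB, S.x_add]; exact h.mul_left h'
theorem rb_addr {s t t' : F} (h : S.RB s t) (h' : S.RB s t') : S.RB s (t + t') := by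
  rw [RB, S.x_add]; exact h.mul_right h'

section Extend

variable {p : ℕ} [Fact p.Prime] [Algebra (ZMod p) F] [Fintype F]

/-- One point suffices when the cubes generate the field. -/
theorem extend (hc : Algebra.adjoin (ZMod p) {(a : F) ^ 3} = ⊤) (bA : S.RA 1 1) (bB : S.RB 1 1) (bC : S.RC 1 1) :
    (∀ s t, S.RA s t) ∧ (∀ s t, S.RB s t) ∧ ∀ s t, S.RC s t := by
  have g02 := (S.hh_scales 0).mul (S.hh_scales 2).inv
  have g10 := (S.hh_scales 1).mul (S.hh_scales 0).inv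
  have g01 := (S.hh_scales 0).mul (S.hh_scales 1).inv
  have g12 := (S.hh_scales 1).mul (S.hh_scales 2).inv
  have hA : ∀ s t, S.RA s t := by
    have h1 : ∀ s, S.RA s 1 := forall_of_span hc _ (by simp [RA, S.x_zero]) (fun _ _ => S.ra_addl) (fun s h => by
      convert g01.commute (show (0 : Fin 3) ≠ 1 by decide) (show (0 : Fin 3) ≠ 2 by decide) h using 2 <;>
        (simp [χ]; try field_simp; try simp; try ring_nf; try simp)) bA
    intro s
    refine forall_of_span hc _ (by simp [RA, S.x_zero]) (fun _ _ => S.ra_addr) (fun t h => ?_) (h1 s)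
    convert g12.commute (show (0 : Fin 3) ≠ 1 by decide) (show (0 : Fin 3) ≠ 2 by decide) h using 2 <;>
      (simp [χ]; try field_simp; try simp; try ring_nf; try simp)
  have hB : ∀ s t, S.RB s t := by
    have h1 : ∀ s, S.RB s 1 := forall_of_span hc _ (by simp [RB, S.x_zero]) (fun _ _ => S.rb_addl) (fun s h => by
      convert g02.commute (show (0 : Fin 3) ≠ 2 by decide) (show (1 : Fin 3) ≠ 2 by decide) h using 2 <;>
        (simp [χ]; try field_simp; try simp; try ring_nf; try simp)) bB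
    intro s
    refine forall_of_span hc _ (by simp [RB, S.x_zero]) (fun _ _ => S.rb_addr) (fun t h => ?_) (h1 s)
    convert g10.commute (show (0 : Fin 3) ≠ 2 by decide) (show (1 : Fin 3) ≠ 2 by decide) h using 2 <;>
      (simp [χ]; try field_simp; try simp; try ring_nf; try simp)
  refine ⟨hA, hB, ?_⟩
  have h1 : ∀ s, S.RC s 1 := forall_of_span hc _ (by simp [RC, S.x_zero]) (fun _ _ => S.rc_addl hA) (fun s h => by
    convert g02.rc h using 1 <;> (simp [χ]; try field_simp; try simp; try ring_nf; try simp)) bC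
  intro s
  refine forall_of_span hc _ (by simp [RC, S.x_zero]) (fun _ _ => S.rc_addr hB) (fun t h => ?_) (h1 s)
  convert g12.rc h using 1 <;> (simp [χ]; try field_simp; try simp; try ring_nf; try simp)

end Extend

/-- Two involutions with an involutory commutator. -/
theorem commute_of_involutions {y z c : G} (hy : y * y = 1) (hz : z * z = 1) (hc : c * c = 1)
    (h : y * z = c * z * y) : Commute y c ∧ Commute c z := by
  have yi := inv_eq_of_mul_eq_one_right hy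
  have zi := inv_eq_of_mul_eq_one_right hz
  have ce : c = y * z * y * z := by
    calc c = (c * z * y) * y⁻¹ * z⁻¹ := by group
      _ = _ := by rw [← h, yi, zi]
  have ci : c = z * y * z * y := by
    conv_lhs => rw [← inv_eq_of_mul_eq_one_right hc, ce]
    simp [_root_.mul_inv_rev, yi, zi, mul_assoc]
  constructor
  · show y * c = c * y
    conv_lhs => rw [ce, mul_assoc y z, mul_assoc y, ← mul_assoc y y, hy, one_mul]
    conv_rhs => rw [ci, mul_assoc (z * y * z), hy, mul_one]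
  · show c * z = z * c
    conv_lhs => rw [ce, mul_assoc (y * z * y), hz, mul_one]
    conv_rhs => rw [ci, mul_assoc z y, mul_assoc z, ← mul_assoc z z, hz, one_mul]

/-- Four elements: two points of the commutator rule suffice. -/
theorem extend_four [Fintype F] [CharP F 2] (ha : ∀ x : Fˣ, x ∈ Subgroup.zpowers a) (h4 : Fintype.card F = 4)
    (b1 : S.RC 1 1) (b2 : S.RC 1 (a : F)) :
    (∀ s t, S.RA s t) ∧ (∀ s t, S.RB s t) ∧ ∀ s t, S.RC s t := by
  set A : F := (a : F)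
  have hord : orderOf a = 3 := by
    rw [orderOf_eq_card_of_forall_mem_zpowers ha, Nat.card_units, Nat.card_eq_fintype_card, h4]
  have a3 : A ^ 3 = 1 := by
    have := congrArg Units.val (pow_orderOf_eq_one a)
    rwa [hord, Units.val_pow_eq_pow_val, Units.val_one] at this
  have a0 : A ≠ 0 := a.ne_zero
  have ainv : ((a⁻¹ : Fˣ) : F) = A ^ 2 := by
    rw [Units.val_inv_eq_inv_val]; exact inv_eq_of_mul_eq_one_right (by rw [← pow_succ']; exact a3)
  have asq : A ^ 2 = 1 + A := by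
    have hne : A - 1 ≠ 0 := by
      rw [sub_ne_zero]
      intro e
      have : a = 1 := Units.ext e
      rw [this, orderOf_one] at hord
      omega
    have : (A - 1) * (A ^ 2 + A + 1) = 0 := by linear_combination a3
    have := (mul_eq_zero.mp this).resolve_left hne
    have h2 : (2 : F) = 0 := CharTwo.two_eq_zero
    linear_combination this - (1 + A) * h2
  have cases4 : ∀ x : F, x = 0 ∨ x = 1 ∨ x = A ∨ x = A ^ 2 := fun x => by
    by_cases hx : x = 0
    · exact Or.inl hx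
    obtain ⟨k, hk⟩ := mem_powers_iff_mem_zpowers.mpr (ha (Units.mk0 x hx))
    have hk' : A ^ k = x := by simpa using congrArg Units.val hk
    rw [← Nat.div_add_mod k 3, pow_add, pow_mul, a3, one_pow, one_mul] at hk'
    have := Nat.mod_lt k (show 3 > 0 by norm_num)
    interval_cases k % 3
    · exact Or.inr (Or.inl (by simpa using hk'.symm))
    · exact Or.inr (Or.inr (Or.inl (by simpa using hk'.symm)))
    · exact Or.inr (Or.inr (Or.inr hk'.symm))
  have invol : ∀ i j, ∀ s : F, S.x i j s * S.x i j s = 1 := fun i j s => by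
    rw [← S.x_add, CharTwo.add_self_eq_zero, S.x_zero]
  -- a property which is additive and holds at `1` and `A`
  have spanA : ∀ P : F → Prop, P 0 → (∀ x y, P x → P y → P (x + y)) → P 1 → P A → ∀ x, P x := by
    intro P h0 hadd h1 hA x
    rcases cases4 x with rfl | rfl | rfl | rfl
    exacts [h0, h1, hA, asq ▸ hadd _ _ h1 hA]
  -- nonzero elements as one orbit
  have orbit : ∀ P : F → Prop, P 0 → P 1 → (∀ x, P x → P (A ^ 2 * x)) → ∀ x, P x := by
    intro P h0 h1 hs x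
    have h2 := hs 1 h1
    rw [mul_one] at h2
    have h3 := hs _ h2
    rw [← pow_add, show 2 + 2 = 3 + 1 by rfl, pow_add, a3, one_mul, pow_one] at h3
    rcases cases4 x with rfl | rfl | rfl | rfl
    exacts [h0, h1, h3, h2]
  obtain ⟨A1, B1⟩ := commute_of_involutions (invol 0 1 1) (invol 1 2 1) (invol 0 2 _) b1
  obtain ⟨A2, B2⟩ := commute_of_involutions (invol 0 1 1) (invol 1 2 A) (invol 0 2 _) b2
  rw [one_mul] at A1 B1 A2 B2
  have hA : ∀ s t, S.RA s t := by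
    refine orbit (fun s => ∀ t, S.RA s t) (fun t => by simp [RA, S.x_zero]) ?_ (fun s h t => ?_)
    · exact spanA _ (by simp [RA, S.x_zero]) (fun _ _ => S.ra_addr) A1 A2
    · have := (S.hh_scales 1).commute (show (0 : Fin 3) ≠ 1 by decide) (show (0 : Fin 3) ≠ 2 by decide)
        (h (A ^ 2 * t))
      convert this using 2
      · simp [χ, ← ainv]
      · simp [χ, ← ainv]
  have hB : ∀ s t, S.RB s t := by
    have := (S.hh_scales 0).commute (show (0 : Fin 3) ≠ 2 by decide) (show (1 : Fin 3) ≠ 2 by decide) B2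
    have B3 : S.RB (A ^ 2) 1 := by
      convert this using 2 <;> simp [χ, A, pow_two]
    have hs : ∀ s, S.RB s 1 := fun s => by
      refine spanA (fun s => S.RB s 1) (by simp [RB, S.x_zero]) (fun _ _ => S.rb_addl) B1 ?_ s
      have h := S.rb_addl B1 B3
      rwa [asq, ← add_assoc, CharTwo.add_self_eq_zero, zero_add] at h
    intro s t
    refine orbit (fun t => ∀ s, S.RB s t) (fun s => by simp [RB, S.x_zero]) hs (fun t h s => ?_) t s
    have := (S.hh_scales 0).commute (show (0 : Fin 3) ≠ 2 by decide) (show (1 : Fin 3) ≠ 2 by decide)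
      (h (A ^ 2 * s))
    convert this using 2
    · simp [χ, ← ainv]
    · simp [χ, ← ainv]
  refine ⟨hA, hB, orbit (fun s => ∀ t, S.RC s t) (fun t => by simp [RC, S.x_zero]) ?_ (fun s h t => ?_)⟩
  · exact spanA _ (by simp [RC, S.x_zero]) (fun _ _ => S.rc_addr hB) b1 b2
  · have := (S.hh_scales 1).rc (h (A * t))
    convert this using 1
    · simp [χ, ← ainv]
    · simp [χ, ← ainv]
      linear_combination (-t) * a3

/-- The rule for the other orientation. -/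
theorem rc_rev [Fintype F] (ha : ∀ x : Fˣ, x ∈ Subgroup.zpowers a) (hC : ∀ s t, S.RC s t) (s t : F) :
    S.x 1 0 s * S.x 0 2 t = S.x 1 2 (s * t) * S.x 0 2 t * S.x 1 0 s := by
  obtain ⟨n, hn⟩ := mem_powers_iff_mem_zpowers.mpr (ha (-1))
  have hn' : a ^ n = -1 := hn
  have hT2 : S.ι mT * S.ι mT = S.ι (mH a) ^ n := by
    rw [← map_mul, mT_sq, ← map_pow, mH_pow, hn']
  have hT2' : (S.ι mT)⁻¹ * (S.ι mT)⁻¹ = S.ι (mH a) ^ n := by
    rw [← _root_.mul_inv_rev, ← map_mul, mT_sq, ← map_inv, mH_inv, ← map_pow, mH_pow, hn']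
    simp
  have e1 : (S.ι mT)⁻¹ * S.w = S.w ^ 2 * S.ι mT :=
    calc (S.ι mT)⁻¹ * S.w = (S.ι mT)⁻¹ * (S.ι mT * S.w ^ 2 * S.ι mT) := by rw [S.weyl]
      _ = _ := by group
  have f12 : ∀ r, (S.ι mT)⁻¹ * S.x 1 2 r * S.ι mT = S.x 0 2 (-r) := fun r => by
    rw [S.x12, S.x02]
    calc (S.ι mT)⁻¹ * (S.w * S.ι (mU r) * S.w⁻¹) * S.ι mT
        = ((S.ι mT)⁻¹ * S.w) * S.ι (mU r) * ((S.ι mT)⁻¹ * S.w)⁻¹ := by group
      _ = S.w ^ 2 * (S.ι mT * S.ι (mU r) * (S.ι mT)⁻¹) * (S.w ^ 2)⁻¹ := by rw [e1]; group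
      _ = _ := by rw [← map_inv, ← map_mul, ← map_mul, mT_conj_mU]
  have f02 : ∀ r, (S.ι mT)⁻¹ * S.x 0 2 r * S.ι mT = S.x 1 2 r := fun r => by
    have h := f12 (-r)
    rw [neg_neg] at h
    calc (S.ι mT)⁻¹ * S.x 0 2 r * S.ι mT
        = ((S.ι mT)⁻¹ * (S.ι mT)⁻¹) * S.x 1 2 (-r) * (S.ι mT * S.ι mT) := by rw [← h]; group
      _ = S.ι (mH a) ^ n * S.x 1 2 (-r) * (S.ι (mH a) ^ n)⁻¹ := by rw [← hT2', _root_.mul_inv_rev, inv_inv]
      _ = _ := by
        rw [S.h_pow_scales n 1 2 (by decide)]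
        congr 1
        simp [χ, ← Units.val_pow_eq_pow_val, hn']
  have f01 : ∀ r, (S.ι mT)⁻¹ * S.x 0 1 r * S.ι mT = S.x 1 0 (-r) := fun r => by
    rw [S.x01, S.x10]
    have hm : (mT⁻¹ * mU r * mT : SpecialLinearGroup (Fin 2) F) = mL (-r) := by
      rw [mul_assoc, inv_mul_eq_iff_eq_mul]; apply Subtype.ext; simp
    rw [← map_inv, ← map_mul, ← map_mul, hm]
  have h := hC (-s) (-t)
  rw [RC, neg_mul_neg] at h
  have h' : ((S.ι mT)⁻¹ * S.x 0 1 (-s) * S.ι mT) * ((S.ι mT)⁻¹ * S.x 1 2 (-t) * S.ι mT) =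
      ((S.ι mT)⁻¹ * S.x 0 2 (s * t) * S.ι mT) * ((S.ι mT)⁻¹ * S.x 1 2 (-t) * S.ι mT) *
        ((S.ι mT)⁻¹ * S.x 0 1 (-s) * S.ι mT) := by
    calc ((S.ι mT)⁻¹ * S.x 0 1 (-s) * S.ι mT) * ((S.ι mT)⁻¹ * S.x 1 2 (-t) * S.ι mT)
        = (S.ι mT)⁻¹ * (S.x 0 1 (-s) * S.x 1 2 (-t)) * S.ι mT := by group
      _ = (S.ι mT)⁻¹ * (S.x 0 2 (s * t) * S.x 1 2 (-t) * S.x 0 1 (-s)) * S.ι mT := by rw [h]
      _ = _ := by group
  rw [f01, f12, f02, neg_neg, neg_neg] at h'
  exact h'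

/-- The root system. -/
theorem exists_rootSys [Fintype F] (ha : ∀ x : Fˣ, x ∈ Subgroup.zpowers a) (hA : ∀ s t, S.RA s t)
    (hB : ∀ s t, S.RB s t) (hC : ∀ s t, S.RC s t) : ∃ R : RootSys F 3 G, R.x = S.x := by
  have same : ∀ i j s t, Commute (S.x i j s) (S.x i j t) := fun i j s t => by
    rw [Commute, SemiconjBy, ← S.x_add, ← S.x_add, add_comm]
  refine ⟨⟨S.x, fun i j _ => S.x_add i j, ?_, ?_, ?_⟩, rfl⟩
  · intro i j k hij hjk hik s t
    have hb : ((i, j, k) = (i, i + 1, i + 2)) ∨ ((i, j, k) = (i, i + 2, i + 1)) := by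
      revert hij hjk hik i j k; decide
    rcases hb with h | h <;> simp only [Prod.mk.injEq, true_and] at h <;> obtain ⟨rfl, rfl⟩ := h
    · have e : ∀ m n r, S.x (m + i) (n + i) r = S.wp i * S.x m n r * (S.wp i)⁻¹ := fun m n r => (S.rot i m n r).symm
      have h1 := e 0 1 s
      have h2 := e 1 2 t
      have h3 := e 0 2 (s * t)
      rw [zero_add, add_comm 1 i] at h1
      rw [add_comm 1 i, add_comm 2 i] at h2
      rw [zero_add, add_comm 2 i] at h3
      rw [h1, h2, h3]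
      calc _ = S.wp i * (S.x 0 1 s * S.x 1 2 t) * (S.wp i)⁻¹ := by group
        _ = S.wp i * (S.x 0 2 (s * t) * S.x 1 2 t * S.x 0 1 s) * (S.wp i)⁻¹ := by
          rw [show S.x 0 1 s * S.x 1 2 t = _ from hC s t]
        _ = _ := by group
    · have e : ∀ m n r, S.x (m + (i + 2)) (n + (i + 2)) r = S.wp (i + 2) * S.x m n r * (S.wp (i + 2))⁻¹ :=
        fun m n r => (S.rot (i + 2) m n r).symm
      have h1 := e 1 0 s
      have h2 := e 0 2 t
      have h3 := e 1 2 (s * t)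
      have q := (by decide : ∀ i : Fin 3, (1 : Fin 3) + (i + 2) = i ∧ (2 : Fin 3) + (i + 2) = i + 1) i
      rw [q.1, zero_add] at h1
      rw [zero_add, q.2] at h2
      rw [q.1, q.2] at h3
      rw [h1, h2, h3]
      calc _ = S.wp (i + 2) * (S.x 1 0 s * S.x 0 2 t) * (S.wp (i + 2))⁻¹ := by group
        _ = S.wp (i + 2) * (S.x 1 2 (s * t) * S.x 0 2 t * S.x 1 0 s) * (S.wp (i + 2))⁻¹ := by
          rw [S.rc_rev ha hC s t]
        _ = _ := by group
  · intro i j k l hij hkl hjk hil s t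
    have hb : (k = i ∧ l = j) ∨ (∃ c : Fin 3, i = c ∧ k = c ∧ ((j = c + 1 ∧ l = c + 2) ∨ (j = c + 2 ∧ l = c + 1))) ∨
        (∃ c : Fin 3, j = c + 2 ∧ l = c + 2 ∧ ((i = c ∧ k = c + 1) ∨ (i = c + 1 ∧ k = c))) := by
      revert hij hkl hjk hil i j k l; decide
    rcases hb with ⟨rfl, rfl⟩ | ⟨c, hi, hk, h⟩ | ⟨c, hj, hl, h⟩
    · exact same _ _ _ _
    · subst hi
      subst hk
      have row : ∀ s t, Commute (S.x k (k + 1) s) (S.x k (k + 2) t) := fun s t => by
        have h1 := S.rot k 0 1 s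
        have h2 := S.rot k 0 2 t
        rw [zero_add, add_comm 1 k] at h1
        rw [zero_add, add_comm 2 k] at h2
        rw [← h1, ← h2]
        exact (Commute.conj_iff _).mpr (hA s t)
      rcases h with ⟨rfl, rfl⟩ | ⟨rfl, rfl⟩
      exacts [row s t, (row t s).symm]
    · subst hj
      subst hl
      have col : ∀ s t, Commute (S.x c (c + 2) s) (S.x (c + 1) (c + 2) t) := fun s t => by
        have h1 := S.rot c 0 2 s
        have h2 := S.rot c 1 2 t
        rw [zero_add, add_comm 2 c] at h1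
        rw [add_comm 1 c, add_comm 2 c] at h2
        rw [← h1, ← h2]
        exact (Commute.conj_iff _).mpr (hB s t)
      rcases h with ⟨rfl, rfl⟩ | ⟨rfl, rfl⟩
      exacts [col s t, (col t s).symm]
  · intro i j hij
    have hkl' : j = i + 1 ∨ i = j + 1 := by revert hij i j; decide
    rcases hkl' with h | h
    · refine ⟨(MulAut.conj (S.wp i)).toMonoidHom.comp S.ι, fun t => ?_, fun t => ?_⟩
      · simp [x, h]
      · have : ¬ i = j + 1 := by revert h hij i j; decide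
        simp [x, this]
    · have : ¬ j = i + 1 := by revert h hij i j; decide
      refine ⟨(MulAut.conj (S.wp j)).toMonoidHom.comp (S.ι.comp swap2), fun t => ?_, fun t => ?_⟩
      · simp [x, this, swap2_mU]
      · simp [x, h, swap2_mL]

end Sys3

end Cfsg.Agent.KSG55.Lin
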